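import Mathlib
import Cfsg.Prelude.Def_RootSubgroups
import Cfsg.Agent.H26.RootInv2

/-!
# S5046 (root involutions, Timmesfeld (2.3)): the "diamond" configuration is impossible -- shared definitions

Paper proof: `notes/S5046_diamond_helper12.md`.

Setting: `D` root involutions, `z c p ∈ D`, `z c = c z`, `z c ∈ D`, `o(z p)` odd, `o(c p) = 4`, `o(z c p)` odd.
`ρ := z * p`, `rc z p v i := ρ^(-i) * v * ρ^i` (right conjugates, `i : ℤ`), `N0 := ⟨rc z p c i : i⟩`,
`theta v := (ρ⁻¹ v ρ)(ρ v ρ⁻¹)`, `nrm v m := ∏_{i<m} ρ^(-i) v ρ^i`.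
-/

set_option autoImplicit false

namespace Cfsg.Agent.Lib.Helper12.Diamond

open Cfsg

variable {G : Type*} [Group G]

/-- the configuration `(z, c, p)` -/
structure Cfg (D : Set G) (z c p : G) : Prop where
  hD : IsRootInvolutionSet D
  hz : z ∈ D
  hc : c ∈ D
  hp : p ∈ D
  hzc : z * c = c * z
  hzcD : z * c ∈ D
  hzp : Odd (orderOf (z * p))
  hcp : orderOf (c * p) = 4
  hzcp : Odd (orderOf (z * c * p))

/-- right conjugate of `v` by `ρ^i`, `ρ = z * p` -/
def rc (z p v : G) (i : ℤ) : G := (z * p) ^ (-i) * v * (z * p) ^ i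

/-- the subgroup generated by the `ρ`-conjugates of `c` -/
def N0 (z p c : G) : Subgroup G := Subgroup.closure (Set.range (rc z p c))

/-- `θ = ρ + ρ⁻¹` in module notation -/
def theta (z p v : G) : G := ((z * p)⁻¹ * v * (z * p)) * ((z * p) * v * (z * p)⁻¹)

/-- partial norms `∏_{i<m} ρ^(-i) v ρ^i` -/
def nrm (z p v : G) : ℕ → G
  | 0 => 1
  | (m + 1) => nrm z p v m * rc z p v m

/-- the iteration map `v ↦ (z (v p)²)²` -/
def step (z p v : G) : G := (z * (v * p) ^ 2) ^ 2

/-- the invariant carried along the iteration -/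
structure Inv (D : Set G) (z c p v : G) : Prop where
  memD : v ∈ D
  memN : v ∈ N0 z p c
  comm : z * v = v * z
  prodD : z * v ∈ D
  four : orderOf (v * p) = 4

theorem rc_zero (z p v : G) : rc z p v 0 = v := by simp [rc]

theorem rc_mem_N0 (z p c : G) (i : ℤ) : rc z p c i ∈ N0 z p c :=
  Subgroup.subset_closure ⟨i, rfl⟩

theorem c_mem_N0 (z p c : G) : c ∈ N0 z p c := by
  have := rc_mem_N0 z p c 0
  rwa [rc_zero] at this

end Cfsg.Agent.Lib.Helper12.Diamond
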