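import Mathlib
import Cfsg.Prelude.Def_RootSubgroups
import Cfsg.Agent.H26.RootInv2
import Cfsg.Agent.Lib.Helper12.Diamond.Defs

/-!
# S5046 diamond farm, piece [B] cfg_basic  (paper proof: notes/S5046_diamond_helper12.md)
STUB: the owner of the piece replaces the `sorry`(s) IN PLACE; names + statements VERBATIM;
auxiliary lemmas in a sub-namespace `Cfsg.Agent.Lib.Helper12.Diamond.<You>`.
-/

set_option autoImplicit false

namespace Cfsg.Agent.Lib.Helper12.Diamond

open Cfsg

variable {G : Type*} [Group G] {D : Set G}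

namespace Aux

/-- `(a b)^4 = 1` for involutions `a`, `b`: `y := (a b)²` is an involution (or `1`) fixed by `a` and `b`. -/
theorem sq_conj_of_pow_four {a b : G} (ha : a * a = 1) (hb : b * b = 1) (h4 : (a * b) ^ 4 = 1) :
    (a * b) ^ 2 * (a * b) ^ 2 = 1 ∧ a * (a * b) ^ 2 * a = (a * b) ^ 2 ∧
      b * (a * b) ^ 2 * b = (a * b) ^ 2 := by
  have hainv : a⁻¹ = a := inv_eq_of_mul_eq_one_left ha
  have hbinv : b⁻¹ = b := inv_eq_of_mul_eq_one_left hb
  have hyy : (a * b) ^ 2 * (a * b) ^ 2 = 1 := by rw [← pow_add]; exact h4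
  have hyinv : ((a * b) ^ 2)⁻¹ = (a * b) ^ 2 := inv_eq_of_mul_eq_one_left hyy
  have hinv : ((a * b) ^ 2)⁻¹ = b * a * (b * a) := by
    rw [sq]
    calc (a * b * (a * b))⁻¹ = b⁻¹ * a⁻¹ * (b⁻¹ * a⁻¹) := by group
      _ = b * a * (b * a) := by rw [hainv, hbinv]
  refine ⟨hyy, ?_, ?_⟩
  · calc a * (a * b) ^ 2 * a = a * (a * b * (a * b)) * a := by rw [sq]
      _ = (a * a) * (b * a * (b * a)) := by group
      _ = b * a * (b * a) := by rw [ha, one_mul]
      _ = ((a * b) ^ 2)⁻¹ := hinv.symm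
      _ = (a * b) ^ 2 := hyinv
  · calc b * (a * b) ^ 2 * b = b * (a * b * (a * b)) * b := by rw [sq]
      _ = (b * a * (b * a)) * (b * b) := by group
      _ = b * a * (b * a) := by rw [hb, mul_one]
      _ = ((a * b) ^ 2)⁻¹ := hinv.symm
      _ = (a * b) ^ 2 := hyinv

/-- commuting form -/
theorem comm_of_conj {a y : G} (ha : a * a = 1) (h : a * y * a = y) : y * a = a * y := by
  calc y * a = (a * a) * (y * a) := by rw [ha, one_mul]
    _ = a * (a * y * a) := by group
    _ = a * y := by rw [h]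

end Aux

/-- [B] basics: involutions, `z ≠ p`, `y := (c p)²` lies in `D`, commutes with `c`, `p`; `p c p = c y`;
`o(z y) = 4` (P1 = `H26.ri_L1` excludes odd, (LA) excludes commuting). -/
theorem cfg_basic {z c p : G} (h : Cfg D z c p) :
    z * z = 1 ∧ c * c = 1 ∧ p * p = 1 ∧ (c * p) ^ 2 ∈ D ∧
      (c * p) ^ 2 * c = c * (c * p) ^ 2 ∧ (c * p) ^ 2 * p = p * (c * p) ^ 2 ∧
      p * c * p = c * (c * p) ^ 2 ∧ orderOf (z * (c * p) ^ 2) = 4 := by
  have hD := h.hD
  have hz2 := H26.ri_mul_self hD h.hz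
  have hc2 := H26.ri_mul_self hD h.hc
  have hp2 := H26.ri_mul_self hD h.hp
  have h4 : (c * p) ^ 4 = 1 := by rw [← h.hcp]; exact pow_orderOf_eq_one _
  obtain ⟨hyy, hcy, hpy⟩ := Aux.sq_conj_of_pow_four hc2 hp2 h4
  have hyD : (c * p) ^ 2 ∈ D := H26.ri_four hD h.hc h.hp h.hcp
  have hyc : (c * p) ^ 2 * c = c * (c * p) ^ 2 := Aux.comm_of_conj hc2 hcy
  have hyp : (c * p) ^ 2 * p = p * (c * p) ^ 2 := Aux.comm_of_conj hp2 hpy
  have hpcp : p * c * p = c * (c * p) ^ 2 := by
    rw [sq]
    calc p * c * p = (c * c) * (p * c * p) := by rw [hc2, one_mul]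
      _ = c * (c * p * (c * p)) := by group
  refine ⟨hz2, hc2, hp2, hyD, hyc, hyp, hpcp, ?_⟩
  -- `z ≠ p`
  have hzp_ne : z ≠ p := by
    rintro rfl
    have h1 : (c * z) ^ 2 = 1 := H26.ri_sq_of_comm hD h.hc h.hz h.hzc.symm
    have h2 : orderOf (c * z) ∣ 2 := orderOf_dvd_of_pow_eq_one h1
    rw [h.hcp] at h2
    omega
  generalize hy : (c * p) ^ 2 = y at hyD hyc hyp hyy
  have hy1 : y ≠ 1 := H26.ri_ne_one hD hyD
  rcases hD.pair z h.hz y hyD with hcomm | hodd | ⟨h4', -⟩
  · -- (LA): `z` commutes with `y`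
    exfalso
    -- `z * (c p c) = c (z p) c` has odd order `n`, and equals `(z p) y`
    have hcpc : c * p * c = p * y := by
      rw [← hy, sq]
      calc c * p * c = (p * p) * (c * p * c) := by rw [hp2, one_mul]
        _ = p * (p * c * (p * c)) := by group
        _ = p * ((c * p * (c * p)))⁻¹⁻¹ := by
            rw [inv_inv]
            have e : (c * p) ^ 2 * (c * p) ^ 2 = 1 := by rw [hy]; exact hyy
            have e2 : ((c * p) ^ 2)⁻¹ = (c * p) ^ 2 := inv_eq_of_mul_eq_one_left e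
            have e3 : ((c * p) ^ 2)⁻¹ = p * c * (p * c) := by
              rw [sq]
              calc (c * p * (c * p))⁻¹ = p⁻¹ * c⁻¹ * (p⁻¹ * c⁻¹) := by group
                _ = p * c * (p * c) := by rw [H26.ri_inv hD h.hp, H26.ri_inv hD h.hc]
            rw [← e3, e2, sq]
        _ = p * (c * p * (c * p)) := by rw [inv_inv]
    have hconj : c * (z * p) * c⁻¹ = z * p * y := by
      rw [H26.ri_inv hD h.hc]
      calc c * (z * p) * c = (c * z) * (p * c) := by group
        _ = (z * c) * (p * c) := by rw [h.hzc]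
        _ = z * (c * p * c) := by group
        _ = z * (p * y) := by rw [hcpc]
        _ = z * p * y := by group
    have hord : orderOf (z * p * y) = orderOf (z * p) := by
      rw [← hconj]; exact H26.orderOf_conj_eq c (z * p)
    -- `y` commutes with `z * p`
    have hcomm' : Commute (z * p) y := by
      show z * p * y = y * (z * p)
      calc z * p * y = z * (p * y) := by group
        _ = z * (y * p) := by rw [hyp]
        _ = (z * y) * p := by group
        _ = (y * z) * p := by rw [hcomm]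
        _ = y * (z * p) := by group
    have h1 : (z * p * y) ^ orderOf (z * p) = y ^ orderOf (z * p) := by
      rw [hcomm'.mul_pow, pow_orderOf_eq_one, one_mul]
    have h2 : (z * p * y) ^ orderOf (z * p) = 1 := by rw [← hord]; exact pow_orderOf_eq_one _
    obtain ⟨k, hk⟩ := h.hzp
    have h3 : y ^ orderOf (z * p) = y := by
      rw [hk, pow_succ, pow_mul, sq, hyy, one_pow, one_mul]
    rw [h1, h3] at h2
    exact hy1 h2
  · -- (P1): `o(z y)` odd
    exfalso
    have hcz : c * z ∈ D := by rw [← h.hzc]; exact h.hzcD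
    have hzy : z = y := H26.ri_L1 hD h.hc h.hz hcz h.hzc.symm hyD hyc.symm hodd
    -- then `z` commutes with `p`
    have hzpc : z * p = p * z := by rw [hzy]; exact hyp
    exact hzp_ne (H26.ri_eq_of_odd_of_comm hD h.hz h.hp h.hzp hzpc)
  · exact h4'

end Cfsg.Agent.Lib.Helper12.Diamond
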