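import Mathlib
import Cfsg.Prelude.Def_RootSubgroups
import Cfsg.Agent.H26.RootInv2
import Cfsg.Agent.Lib.Helper12.Diamond.Defs

/-!
# S5046 diamond farm, piece [CFG] cfg_of_diamond  (paper proof: notes/S5046_diamond_helper12.md)
STUB: the owner of the piece replaces the `sorry`(s) IN PLACE; names + statements VERBATIM;
auxiliary lemmas in a sub-namespace `Cfsg.Agent.Lib.Helper12.Diamond.<You>`.
-/

set_option autoImplicit false

namespace Cfsg.Agent.Lib.Helper12.Diamond

open Cfsg

variable {G : Type*} [Group G] {D : Set G}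

/-- [CFG] the diamond data give a configuration: `z := (g c)²`, `A_g = A_z`, `p ∈ A_z \ A_c`. -/
theorem cfg_of_diamond (hD : IsRootInvolutionSet D) {g c p : G} (hg : g ∈ D) (hc : c ∈ D) (hp : p ∈ D)
    (hz : (g * c) ^ 2 ∈ D) (hpz : p ∈ oddPartners D ((g * c) ^ 2)) (hpc : p ∉ oddPartners D c) :
    Cfg D ((g * c) ^ 2) c p := by
  have hg2 := H26.ri_mul_self hD hg
  have hc2 := H26.ri_mul_self hD hc
  have hginv := H26.ri_inv hD hg
  have hcinv := H26.ri_inv hD hc
  have hzinv := H26.ri_inv hD hz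
  have hzi : ((g * c) ^ 2)⁻¹ = c * g * (c * g) := by
    rw [sq]
    calc (g * c * (g * c))⁻¹ = c⁻¹ * g⁻¹ * (c⁻¹ * g⁻¹) := by group
      _ = c * g * (c * g) := by rw [hginv, hcinv]
  have hcgcg : c * g * (c * g) = (g * c) ^ 2 := by rw [← hzi, hzinv]
  have hzc' : (g * c) ^ 2 * c = g * c * g := by
    calc (g * c) ^ 2 * c = g * c * (g * c) * c := by rw [sq]
      _ = g * c * g * (c * c) := by group
      _ = g * c * g := by rw [hc2, mul_one]
  have hcz' : c * (g * c) ^ 2 = (g * c) ^ 2 * c := by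
    calc c * (g * c) ^ 2 = c * (g * c * (g * c)) := by rw [sq]
      _ = (c * g * (c * g)) * c := by group
      _ = (g * c) ^ 2 * c := by rw [hcgcg]
  have hzcD : (g * c) ^ 2 * c ∈ D := by
    rw [hzc']
    exact H26.ri_conj' hD hc hg
  obtain ⟨-, hpne, hodd⟩ := hpz
  generalize (g * c) ^ 2 = z at hz hzcD hcz' hpne hodd
  have hczD : c * z ∈ D := by rw [hcz']; exact hzcD
  -- (P1): `c` does not commute with `p`
  have hncomm : c * p ≠ p * c := by
    intro hcomm
    have := H26.ri_L1 hD hc hz hczD hcz' hp hcomm hodd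
    exact hpne this.symm
  have hcp : orderOf (c * p) = 4 := by
    rcases H26.ri_odd_or_four hD hc hp hncomm with ho | h4
    · exfalso
      apply hpc
      refine ⟨hp, ?_, ho⟩
      rintro rfl
      exact hncomm rfl
    · exact h4
  refine ⟨hD, hz, hc, hp, hcz'.symm, hzcD, hodd, hcp, ?_⟩
  -- (LD)
  have hef : OddAdj D z p := ⟨hz, hp, fun h => hpne h.symm, hodd⟩
  rcases H26.ri_line_odd hD hc hz hczD hcz' hef with h1 | h1
  · exfalso
    obtain ⟨-, -, -, ho⟩ := h1
    rw [H26.orderOf_mul_comm_eq, hcp] at ho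
    exact (by decide : ¬ Odd 4) ho
  · obtain ⟨-, -, -, ho⟩ := h1
    rw [H26.orderOf_mul_comm_eq, hcz'] at ho
    exact ho

end Cfsg.Agent.Lib.Helper12.Diamond
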