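import Mathlib
import Cfsg.Prelude.Def_RootSubgroups
import Cfsg.Agent.H26.RootInv2
import Cfsg.Agent.Lib.Helper12.Diamond.Defs

/-!
# General constructor of a configuration `Cfg D z c p`

`z, c ∈ D` commuting with `z c ∈ D`, and `p ∈ A_z \ A_c`.
-/

set_option autoImplicit false

namespace Cfsg.Agent.Lib.Helper12.Diamond

open Cfsg

variable {G : Type*} [Group G] {D : Set G}

/-- `z, c ∈ D` commuting, `z c ∈ D`, `p` an odd partner of `z` but not of `c`: then `(z, c, p)` is a configuration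
(`o(c p) = 4` by (P1), `o(z c p)` odd by (LD)). -/
theorem cfg_of_not_mem (hD : IsRootInvolutionSet D) {z c p : G} (hz : z ∈ D) (hc : c ∈ D)
    (hzc : z * c = c * z) (hzcD : z * c ∈ D) (hpz : p ∈ oddPartners D z) (hpc : p ∉ oddPartners D c) :
    Cfg D z c p := by
  obtain ⟨hp, hpne, hodd⟩ := hpz
  have hczD : c * z ∈ D := by rw [← hzc]; exact hzcD
  -- (P1): `c` does not commute with `p`
  have hncomm : c * p ≠ p * c := by
    intro hcomm
    have := H26.ri_L1 hD hc hz hczD hzc.symm hp hcomm hodd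
    exact hpne this.symm
  have hcp : orderOf (c * p) = 4 := by
    rcases H26.ri_odd_or_four hD hc hp hncomm with ho | h4
    · exfalso
      apply hpc
      refine ⟨hp, ?_, ho⟩
      rintro rfl
      exact hncomm rfl
    · exact h4
  refine ⟨hD, hz, hc, hp, hzc, hzcD, hodd, hcp, ?_⟩
  -- (LD)
  have hef : OddAdj D z p := ⟨hz, hp, fun h => hpne h.symm, hodd⟩
  rcases H26.ri_line_odd hD hc hz hczD hzc.symm hef with h1 | h1
  · exfalso
    obtain ⟨-, -, -, ho⟩ := h1
    rw [H26.orderOf_mul_comm_eq, hcp] at ho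
    exact (by decide : ¬ Odd 4) ho
  · obtain ⟨-, -, -, ho⟩ := h1
    rw [H26.orderOf_mul_comm_eq, ← hzc] at ho
    exact ho

end Cfsg.Agent.Lib.Helper12.Diamond
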