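import Mathlib
import Cfsg.Prelude.Def_RootSubgroups
import Cfsg.Agent.H26.RootInv2
import Cfsg.Agent.Lib.Helper12.Diamond.Defs
import Cfsg.Agent.Lib.Helper12.Diamond.BasicB

/-!
# S5046 diamond farm, piece [K1] key1  (paper proof: notes/S5046_diamond_helper12.md)
STUB: the owner of the piece replaces the `sorry`(s) IN PLACE; names + statements VERBATIM;
auxiliary lemmas in a sub-namespace `Cfsg.Agent.Lib.Helper12.Diamond.<You>`.
-/

set_option autoImplicit false

namespace Cfsg.Agent.Lib.Helper12.Diamond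

open Cfsg

variable {G : Type*} [Group G] {D : Set G}

namespace Helper9

/-- shifting the index is conjugation by a power of `ρ` -/
theorem rc_add (z p v : G) (a b : ℤ) :
    rc z p v (a + b) = (z * p) ^ (-a) * rc z p v b * (z * p) ^ a := by
  unfold rc
  rw [neg_add, zpow_add, zpow_add]
  group

theorem commute_rc_shift (z p v : G) (i j a : ℤ) (h : Commute (rc z p v i) (rc z p v j)) :
    Commute (rc z p v (a + i)) (rc z p v (a + j)) := by
  rw [rc_add z p v a i, rc_add z p v a j]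
  have h1 : (z * p) ^ a = ((z * p) ^ (-a))⁻¹ := by rw [zpow_neg, inv_inv]
  rw [h1]
  exact (Commute.conj_iff _).2 h

/-- `z ρ^i z = ρ^(-i)` -/
theorem z_conj_zpow {z p : G} (hz : z * z = 1) (hp : p * p = 1) (i : ℤ) :
    z * (z * p) ^ i * z = (z * p) ^ (-i) := by
  have hzi : z⁻¹ = z := inv_eq_of_mul_eq_one_left hz
  have hpi : p⁻¹ = p := inv_eq_of_mul_eq_one_left hp
  have h1 : z * (z * p) * z⁻¹ = (z * p)⁻¹ := by
    rw [mul_inv_rev, hzi, hpi, ← mul_assoc, hz, one_mul]
  have h2 := conj_zpow (i := i) (a := z) (b := z * p)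
  rw [h1, inv_zpow'] at h2
  rw [h2, hzi]

theorem p_conj_zpow {z p : G} (hz : z * z = 1) (hp : p * p = 1) (i : ℤ) :
    p * (z * p) ^ i * p = (z * p) ^ (-i) := by
  have hzi : z⁻¹ = z := inv_eq_of_mul_eq_one_left hz
  have hpi : p⁻¹ = p := inv_eq_of_mul_eq_one_left hp
  have h1 : p * (z * p) * p⁻¹ = (z * p)⁻¹ := by
    rw [mul_inv_rev, hzi, hpi, mul_assoc, mul_assoc, hp, mul_one]
  have h2 := conj_zpow (i := i) (a := p) (b := z * p)
  rw [h1, inv_zpow'] at h2
  rw [h2, hpi]


/-- `z` reverses the index -/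
theorem z_conj_rc {z p v : G} (hz : z * z = 1) (hp : p * p = 1) (hzv : z * v = v * z) (i : ℤ) :
    z * rc z p v i * z = rc z p v (-i) := by
  unfold rc
  have h1 := z_conj_zpow hz hp (-i)
  have h2 := z_conj_zpow hz hp i
  have hzvz : z * v * z = v := by rw [hzv, mul_assoc, hz, mul_one]
  calc z * ((z * p) ^ (-i) * v * (z * p) ^ i) * z
      = (z * (z * p) ^ (-i) * z) * (z * v * z) * (z * (z * p) ^ i * z) := by
        have : ∀ a b c : G, (z * a * z) * (z * b * z) * (z * c * z) = z * (a * b * c) * z := by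
          intro a b c
          calc (z * a * z) * (z * b * z) * (z * c * z)
              = z * a * (z * z) * b * (z * z) * c * z := by group
            _ = z * (a * b * c) * z := by rw [hz]; group
        rw [this]
    _ = (z * p) ^ (- -i) * v * (z * p) ^ (-i) := by rw [h1, h2, hzvz]

/-- `p` reflects the index about `1/2` -/
theorem p_conj_rc {z p v : G} (hz : z * z = 1) (hp : p * p = 1) (hzv : z * v = v * z) (i : ℤ) :
    p * rc z p v i * p = rc z p v (1 - i) := by
  unfold rc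
  have h1 := p_conj_zpow hz hp (-i)
  have h2 := p_conj_zpow hz hp i
  have hzi : z⁻¹ = z := inv_eq_of_mul_eq_one_left hz
  have hpi : p⁻¹ = p := inv_eq_of_mul_eq_one_left hp
  have hzvz : z * v * z = v := by rw [hzv, mul_assoc, hz, mul_one]
  have hpvp : p * v * p = (z * p) ^ (-1 : ℤ) * v * (z * p) ^ (1 : ℤ) := by
    rw [zpow_neg, zpow_one, mul_inv_rev, hzi, hpi]
    calc p * v * p = p * (z * v * z) * p := by rw [hzvz]
      _ = p * z * v * (z * p) := by group
  calc p * ((z * p) ^ (-i) * v * (z * p) ^ i) * p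
      = (p * (z * p) ^ (-i) * p) * (p * v * p) * (p * (z * p) ^ i * p) := by
        have : ∀ a b c : G, (p * a * p) * (p * b * p) * (p * c * p) = p * (a * b * c) * p := by
          intro a b c
          calc (p * a * p) * (p * b * p) * (p * c * p)
              = p * a * (p * p) * b * (p * p) * c * p := by group
            _ = p * (a * b * c) * p := by rw [hp]; group
        rw [this]
    _ = (z * p) ^ (-(1 - i)) * v * (z * p) ^ (1 - i) := by
        rw [h1, h2, hpvp]
        have e1 : (-(1 - i) : ℤ) = - -i + (-1) := by ring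
        have e2 : (1 - i : ℤ) = 1 + -i := by ring
        rw [e1, e2, zpow_add, zpow_add]
        simp only [mul_assoc]

theorem commute_of_sq_eq_one {a b : G} (ha : a * a = 1) (hb : b * b = 1) (h : (a * b) ^ 2 = 1) :
    Commute a b := by
  have hai : a⁻¹ = a := inv_eq_of_mul_eq_one_left ha
  have hbi : b⁻¹ = b := inv_eq_of_mul_eq_one_left hb
  have h1 : a * b = (a * b)⁻¹ := by
    rw [sq] at h
    exact (inv_eq_of_mul_eq_one_left h).symm
  rw [mul_inv_rev, hai, hbi] at h1
  exact h1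

/-- for `a, b ∈ D` the square of `a * b` is an involution (or `1`) or has odd order -/
theorem sq_dichotomy (hD : IsRootInvolutionSet D) {a b : G} (ha : a ∈ D) (hb : b ∈ D) :
    ((a * b) ^ 2) ^ 2 = 1 ∨ Odd (orderOf ((a * b) ^ 2)) := by
  rcases hD.pair a ha b hb with h | h | ⟨h, _⟩
  · left
    have ha2 := Cfsg.Agent.H26.ri_mul_self hD ha
    have hb2 := Cfsg.Agent.H26.ri_mul_self hD hb
    have : (a * b) ^ 2 = 1 := by
      rw [sq]
      calc a * b * (a * b) = a * (b * a) * b := by group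
        _ = a * (a * b) * b := by rw [h]
        _ = (a * a) * (b * b) := by group
        _ = 1 := by rw [ha2, hb2, one_mul]
    rw [this, one_pow]
  · right
    exact Cfsg.Agent.H26.odd_orderOf_sq h
  · left
    calc ((a * b) ^ 2) ^ 2 = (a * b) ^ 4 := by rw [← pow_mul]
      _ = 1 := by rw [← h]; exact pow_orderOf_eq_one _

/-- the same dichotomy for a conjugate -/
theorem conj_dichotomy {g x w : G} (hw : w = g * x * g⁻¹)
    (h : (x ^ 2 = 1) ∨ Odd (orderOf x)) : w ^ 2 = 1 ∨ Odd (orderOf w) := by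
  rcases h with h | h
  · left
    rw [hw, conj_pow, h, mul_one, mul_inv_cancel]
  · right
    rw [hw, Cfsg.Agent.H26.orderOf_conj_eq]
    exact h

theorem rc_mem (hD : IsRootInvolutionSet D) {z p v : G} (hv : v ∈ D) (i : ℤ) : rc z p v i ∈ D := by
  unfold rc
  have := hD.conj_mem v hv ((z * p) ^ (-i))
  have h1 : ((z * p) ^ (-i))⁻¹ = (z * p) ^ i := by rw [zpow_neg, inv_inv]
  rwa [h1] at this

/-- `c * d_j` squares to one or has odd order -/
theorem prod_dichotomy (hD : IsRootInvolutionSet D) {z p c : G} (hz : z ∈ D) (hp : p ∈ D)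
    (hc : c ∈ D) (hzc : z * c = c * z) (j : ℤ) :
    (c * rc z p c j) ^ 2 = 1 ∨ Odd (orderOf (c * rc z p c j)) := by
  have hz2 := Cfsg.Agent.H26.ri_mul_self hD hz
  have hp2 := Cfsg.Agent.H26.ri_mul_self hD hp
  rcases Int.even_or_odd' j with ⟨i, rfl | rfl⟩
  · -- `j = 2 i`
    have hg : (z * p) ^ i = ((z * p) ^ (-i))⁻¹ := by rw [zpow_neg, inv_inv]
    have e3 : (z * rc z p c i) ^ 2 = rc z p c (-i) * rc z p c i := by
      rw [sq, ← z_conj_rc hz2 hp2 hzc i]; group
    have e2 : c * rc z p c (2 * i)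
        = (z * p) ^ (-i) * (z * rc z p c i) ^ 2 * ((z * p) ^ (-i))⁻¹ := by
      calc c * rc z p c (2 * i) = rc z p c (i + -i) * rc z p c (i + i) := by
            rw [add_neg_cancel, rc_zero, ← two_mul]
        _ = ((z * p) ^ (-i) * rc z p c (-i) * (z * p) ^ i)
              * ((z * p) ^ (-i) * rc z p c i * (z * p) ^ i) := by
            rw [rc_add z p c i (-i), rc_add z p c i i]
        _ = (z * p) ^ (-i) * (z * rc z p c i) ^ 2 * ((z * p) ^ (-i))⁻¹ := by
            rw [e3, hg]; group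
    refine conj_dichotomy e2 ?_
    exact sq_dichotomy hD hz (rc_mem hD hc i)
  · -- `j = 2 i + 1`
    have hg : (z * p) ^ i = ((z * p) ^ (-i))⁻¹ := by rw [zpow_neg, inv_inv]
    have e3 : (p * rc z p c (i + 1)) ^ 2 = rc z p c (-i) * rc z p c (i + 1) := by
      have := p_conj_rc hz2 hp2 hzc (i + 1)
      have e : 1 - (i + 1) = -i := by ring
      rw [e] at this
      rw [sq, ← this]; group
    have e2 : c * rc z p c (2 * i + 1)
        = (z * p) ^ (-i) * (p * rc z p c (i + 1)) ^ 2 * ((z * p) ^ (-i))⁻¹ := by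
      have e : (2 * i + 1 : ℤ) = i + (i + 1) := by ring
      calc c * rc z p c (2 * i + 1) = rc z p c (i + -i) * rc z p c (i + (i + 1)) := by
            rw [add_neg_cancel, rc_zero, e]
        _ = ((z * p) ^ (-i) * rc z p c (-i) * (z * p) ^ i)
              * ((z * p) ^ (-i) * rc z p c (i + 1) * (z * p) ^ i) := by
            rw [rc_add z p c i (-i), rc_add z p c i (i + 1)]
        _ = (z * p) ^ (-i) * (p * rc z p c (i + 1)) ^ 2 * ((z * p) ^ (-i))⁻¹ := by
            rw [e3, hg]; group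
    refine conj_dichotomy e2 ?_
    exact sq_dichotomy hD hp (rc_mem hD hc (i + 1))

/-- from commutation with the first `k` conjugates to all pairs at distance `≤ k` -/
theorem comm_of_Q {z p c : G} {k : ℕ}
    (hQ : ∀ j : ℕ, j ≤ k → Commute (rc z p c 0) (rc z p c j)) (a b : ℤ)
    (hab : (a - b).natAbs ≤ k) : Commute (rc z p c a) (rc z p c b) := by
  rcases le_total a b with h | h
  · obtain ⟨j, hj⟩ := Int.eq_ofNat_of_zero_le (sub_nonneg.2 h)
    have hjk : j ≤ k := by omega
    have := commute_rc_shift z p c 0 j a (hQ j hjk)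
    rw [add_zero] at this
    have e : a + (j : ℤ) = b := by omega
    rwa [e] at this
  · obtain ⟨j, hj⟩ := Int.eq_ofNat_of_zero_le (sub_nonneg.2 h)
    have hjk : j ≤ k := by omega
    have := commute_rc_shift z p c 0 j b (hQ j hjk)
    rw [add_zero] at this
    have e : b + (j : ℤ) = a := by omega
    rw [e] at this
    exact this.symm

theorem pow_odd_of_sq_eq_one {u : G} (hu : u ^ 2 = 1) {n : ℕ} (hn : Odd n) : u ^ n = u := by
  obtain ⟨t, rfl⟩ := hn
  rw [pow_succ, pow_mul, hu, one_pow, one_mul]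

/-- the induction step -/
theorem key1_step (hD : IsRootInvolutionSet D) {z p c : G} (hz : z ∈ D) (hp : p ∈ D) (hc : c ∈ D)
    (hzc : z * c = c * z) (hy : rc z p c 0 * rc z p c 1 ∈ D) (k : ℕ) (hk : 2 ≤ k)
    (hQ : ∀ j : ℕ, j ≤ k → Commute (rc z p c 0) (rc z p c j)) :
    Commute (rc z p c 0) (rc z p c ((k + 1 : ℕ) : ℤ)) := by
  have hd2 : ∀ i : ℤ, rc z p c i * rc z p c i = 1 :=
    fun i => Cfsg.Agent.H26.ri_mul_self hD (rc_mem hD hc i)
  have hP := comm_of_Q hQ
  set d := rc z p c with hd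
  have hk1 : ((k + 1 : ℕ) : ℤ) = (k : ℤ) + 1 := by push_cast; ring
  rw [hk1]
  set w := d 0 * d ((k : ℤ) + 1) with hw
  have hdich : w ^ 2 = 1 ∨ Odd (orderOf w) := by
    have := prod_dichotomy hD hz hp hc hzc ((k : ℤ) + 1)
    rw [← rc_zero z p c] at this
    simpa [hw, hd, rc_zero] using this
  rcases hdich with h1 | hodd
  · exact commute_of_sq_eq_one (hd2 0) (hd2 _) h1
  -- the odd case
  by_cases h1k : d 1 = d (k : ℤ)
  · -- periodic: `d (k+1) = d 2`
    have e : d ((k : ℤ) + 1) = d 2 := by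
      have a1 := rc_add z p c 1 (k : ℤ)
      have a2 := rc_add z p c 1 1
      have e1 : (1 : ℤ) + (k : ℤ) = (k : ℤ) + 1 := by ring
      have e2 : (1 : ℤ) + 1 = 2 := by ring
      rw [e1] at a1
      rw [e2] at a2
      rw [hd, a1, a2]
      show (z * p) ^ (-1 : ℤ) * d (k : ℤ) * (z * p) ^ (1 : ℤ) = (z * p) ^ (-1 : ℤ) * d 1 * (z * p) ^ (1 : ℤ)
      rw [h1k]
    rw [e]
    exact hQ 2 hk
  -- the involution `u = d 1 * d k`
  have c1k : Commute (d 1) (d (k : ℤ)) := hP 1 k (by omega)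
  have c10 : Commute (d 1) (d 0) := hP 1 0 (by omega)
  have ck0 : Commute (d (k : ℤ)) (d 0) := hP k 0 (by omega)
  have c1k1 : Commute (d 1) (d ((k : ℤ) + 1)) := hP 1 (k + 1) (by omega)
  have ckk1 : Commute (d (k : ℤ)) (d ((k : ℤ) + 1)) := hP k (k + 1) (by omega)
  set u := d 1 * d (k : ℤ) with hu
  have hu2 : u ^ 2 = 1 := by
    rw [hu, c1k.mul_pow, sq, sq, hd2, hd2, one_mul]
  have hu1 : u ≠ 1 := by
    intro h
    apply h1k
    have : d 1 = (d (k : ℤ))⁻¹ := eq_inv_of_mul_eq_one_left h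
    rw [this]
    exact inv_eq_of_mul_eq_one_left (hd2 _)
  have hu0 : Commute u (d 0) := c10.mul_left ck0
  have huk1 : Commute u (d ((k : ℤ) + 1)) := c1k1.mul_left ckk1
  have huw : Commute u w := hu0.mul_right huk1
  -- `y' = d k * d (k+1) ∈ D`
  have hy' : d (k : ℤ) * d ((k : ℤ) + 1) ∈ D := by
    have a0 := rc_add z p c (k : ℤ) 0
    have a1 := rc_add z p c (k : ℤ) 1
    rw [add_zero] at a0
    have := hD.conj_mem _ hy ((z * p) ^ (-(k : ℤ)))
    have hg : ((z * p) ^ (-(k : ℤ)))⁻¹ = (z * p) ^ (k : ℤ) := by rw [zpow_neg, inv_inv]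
    rw [hg] at this
    have e : d (k : ℤ) * d ((k : ℤ) + 1)
        = (z * p) ^ (-(k : ℤ)) * (rc z p c 0 * rc z p c 1) * (z * p) ^ (k : ℤ) := by
      rw [hd, a0, a1]; group
    rw [e]
    exact this
  have hyy : (d 0 * d 1) * (d (k : ℤ) * d ((k : ℤ) + 1)) = u * w := by
    calc (d 0 * d 1) * (d (k : ℤ) * d ((k : ℤ) + 1)) = d 0 * u * d ((k : ℤ) + 1) := by
          rw [hu]; group
      _ = u * d 0 * d ((k : ℤ) + 1) := by rw [hu0.eq]
      _ = u * w := by rw [hw]; group
  have hw4 : ∀ hh : w ^ 2 = 1, Commute (d 0) (d ((k : ℤ) + 1)) :=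
    fun hh => commute_of_sq_eq_one (hd2 0) (hd2 _) hh
  rcases hD.pair _ hy _ hy' with h | h | ⟨h, _⟩
  · -- commuting: `(u w)^2 = 1`
    apply hw4
    have hyinv := Cfsg.Agent.H26.ri_mul_self hD hy
    have hy'inv := Cfsg.Agent.H26.ri_mul_self hD hy'
    have h2 : (u * w) ^ 2 = 1 := by
      rw [← hyy, sq]
      calc d 0 * d 1 * (d (k : ℤ) * d ((k : ℤ) + 1)) * (d 0 * d 1 * (d (k : ℤ) * d ((k : ℤ) + 1)))
          = d 0 * d 1 * ((d (k : ℤ) * d ((k : ℤ) + 1)) * (d 0 * d 1))
              * (d (k : ℤ) * d ((k : ℤ) + 1)) := by group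
        _ = d 0 * d 1 * ((d 0 * d 1) * (d (k : ℤ) * d ((k : ℤ) + 1)))
              * (d (k : ℤ) * d ((k : ℤ) + 1)) := by rw [h]
        _ = (d 0 * d 1 * (d 0 * d 1)) * ((d (k : ℤ) * d ((k : ℤ) + 1))
              * (d (k : ℤ) * d ((k : ℤ) + 1))) := by group
        _ = 1 := by rw [hyinv, hy'inv, one_mul]
    rw [huw.mul_pow, hu2, one_mul] at h2
    exact h2
  · -- odd order: impossible
    exfalso
    rw [hyy] at h
    have h2 : (u * w) ^ orderOf (u * w) = 1 := pow_orderOf_eq_one _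
    rw [huw.mul_pow, pow_odd_of_sq_eq_one hu2 h] at h2
    -- `u = (w ^ o)⁻¹` has odd order
    have h3 : u = (w ^ orderOf (u * w))⁻¹ := eq_inv_of_mul_eq_one_left h2
    have h4 : Odd (orderOf u) := by
      rw [h3, orderOf_inv]
      exact Odd.of_dvd_nat hodd (orderOf_pow_dvd _)
    exact hu1 (Cfsg.Agent.H26.odd_orderOf_eq_one_of_sq h4 hu2)
  · -- order four: `w^4 = 1`
    apply hw4
    rw [hyy] at h
    have h2 : (u * w) ^ 4 = 1 := by rw [← h]; exact pow_orderOf_eq_one _
    have h3 : w ^ 4 = 1 := by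
      rw [huw.mul_pow] at h2
      have : u ^ 4 = 1 := by
        calc u ^ 4 = (u ^ 2) ^ 2 := by rw [← pow_mul]
          _ = 1 := by rw [hu2, one_pow]
      rwa [this, one_mul] at h2
    have h4 : (w ^ 2) ^ 2 = 1 := by rw [← pow_mul]; exact h3
    exact Cfsg.Agent.H26.odd_orderOf_eq_one_of_sq (Cfsg.Agent.H26.odd_orderOf_sq hodd) h4

/-- `key1` from the basic facts of the configuration -/
theorem key1_main (hD : IsRootInvolutionSet D) {z p c : G} (hz : z ∈ D) (hp : p ∈ D) (hc : c ∈ D)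
    (hzc : z * c = c * z) (hy : (c * p) ^ 2 ∈ D) (hyc : (c * p) ^ 2 * c = c * (c * p) ^ 2)
    (hpcp : p * c * p = c * (c * p) ^ 2) (hzy : orderOf (z * (c * p) ^ 2) = 4) :
    ∀ i : ℤ, Commute c (rc z p c i) := by
  have hz2 := Cfsg.Agent.H26.ri_mul_self hD hz
  have hp2 := Cfsg.Agent.H26.ri_mul_self hD hp
  have hc2 := Cfsg.Agent.H26.ri_mul_self hD hc
  have hy2 := Cfsg.Agent.H26.ri_mul_self hD hy
  set y := (c * p) ^ 2 with hydef
  -- `d 1 = c y`
  have hd1 : rc z p c 1 = c * y := by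
    have := p_conj_rc hz2 hp2 hzc 0
    rw [rc_zero, sub_zero] at this
    rw [← this, hpcp]
  -- `d (-1) = c (z y z)`
  have hdm1 : rc z p c (-1) = c * (z * y * z) := by
    have := z_conj_rc hz2 hp2 hzc 1
    rw [← this, hd1]
    calc z * (c * y) * z = (z * c) * y * z := by group
      _ = (c * z) * y * z := by rw [hzc]
      _ = c * (z * y * z) := by group
  have hcy : Commute c y := hyc.symm
  have hcz : Commute c z := hzc.symm
  have hczyz : Commute c (z * y * z) := (hcz.mul_right hcy).mul_right hcz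
  have hyzy : Commute (z * y * z) y := by
    have h1 : (z * y * z) * (z * y * z) = 1 := by
      calc z * y * z * (z * y * z) = z * y * (z * z) * y * z := by group
        _ = z * (y * y) * z := by rw [hz2]; group
        _ = 1 := by rw [hy2, mul_one, hz2]
    have h4 : (z * y) ^ 4 = 1 := by rw [← hzy]; exact pow_orderOf_eq_one _
    have h2 : ((z * y * z) * y) ^ 2 = 1 := by
      have : (z * y * z) * y = (z * y) ^ 2 := by rw [sq]; group
      rw [this, ← pow_mul]
      exact h4
    exact commute_of_sq_eq_one h1 hy2 h2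
  have hy01 : rc z p c 0 * rc z p c 1 ∈ D := by
    rw [rc_zero, hd1, ← mul_assoc, hc2, one_mul]
    exact hy
  have hQ1 : Commute (rc z p c 0) (rc z p c 1) := by
    rw [rc_zero, hd1]
    exact (Commute.refl c).mul_right hcy
  have hQ2 : Commute (rc z p c 0) (rc z p c 2) := by
    have h := commute_rc_shift z p c (-1) 1 1 (by
      rw [hdm1, hd1]
      exact ((Commute.refl c).mul_right hcy).mul_left (hczyz.symm.mul_right hyzy))
    have e1 : (1 : ℤ) + -1 = 0 := by ring
    have e2 : (1 : ℤ) + 1 = 2 := by ring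
    rwa [e1, e2] at h
  have hQ : ∀ k : ℕ, 2 ≤ k → ∀ j : ℕ, j ≤ k → Commute (rc z p c 0) (rc z p c j) := by
    intro k hk
    induction k, hk using Nat.le_induction with
    | base =>
      intro j hj
      interval_cases j
      · exact Commute.refl _
      · exact_mod_cast hQ1
      · exact_mod_cast hQ2
    | succ k hk ih =>
      intro j hj
      rcases Nat.lt_or_ge j (k + 1) with h | h
      · exact ih j (by omega)
      · have : j = k + 1 := by omega
        subst this
        exact key1_step hD hz hp hc hzc hy01 k hk ih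
  intro i
  have := comm_of_Q (hQ (max 2 i.natAbs) (le_max_left _ _)) 0 i (by
    rw [zero_sub, Int.natAbs_neg]; exact le_max_right _ _)
  rwa [rc_zero] at this

end Helper9

/-- [K1] `N0` is abelian: `c` commutes with all its `ρ`-conjugates.  Induction on `|i|` (see the notes, step 1):
`rc 0 · rc 1 = (c p)² ∈ D`; `[rc (-1), rc 1] = 1` from `(z y)^4 = 1`; step: if `c · rc (k+1) = (c s)²` had odd order
`m > 1` (`s := ρ^(-(k+1)) z ρ^(k+1)`-type reflection, in `D`) then `y · ρ^(-k) y ρ^k = (rc 1 · rc k)(rc 0 · rc (k+1))`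
has order `2m` (or `rc 1 = rc k` and `rc (k+1) = rc 2`). -/
theorem key1 {z c p : G} (h : Cfg D z c p) : ∀ i : ℤ, Commute c (rc z p c i) := by
  obtain ⟨-, -, -, hy, hyc, -, hpcp, hzy⟩ := cfg_basic h
  exact Helper9.key1_main h.hD h.hz h.hp h.hc h.hzc hy hyc hpcp hzy

end Cfsg.Agent.Lib.Helper12.Diamond
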