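import Mathlib
import Cfsg.Prelude.Def_RootSubgroups
import Cfsg.Agent.H26.RootInv2
import Cfsg.Agent.Lib.Helper12.Diamond.Defs

/-!
# S5046 diamond farm, piece [A1] N0_struct  (paper proof: notes/S5046_diamond_helper12.md)
STUB: the owner of the piece replaces the `sorry`(s) IN PLACE; names + statements VERBATIM;
auxiliary lemmas in a sub-namespace `Cfsg.Agent.Lib.Helper12.Diamond.<You>`.
-/

set_option autoImplicit false

namespace Cfsg.Agent.Lib.Helper12.Diamond

open Cfsg

variable {G : Type*} [Group G] {D : Set G}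

namespace Helper1

theorem rc_conj (z p v : G) (i k : ℤ) :
    (z * p) ^ (-k) * rc z p v i * (z * p) ^ k = rc z p v (i + k) := by
  unfold rc
  have h1 : (z * p) ^ (-(i + k)) = (z * p) ^ (-k) * (z * p) ^ (-i) := by
    rw [← zpow_add]; congr 1; ring
  have h2 : (z * p) ^ (i + k) = (z * p) ^ i * (z * p) ^ k := zpow_add _ _ _
  rw [h1, h2]
  group

theorem rc_conj_one (z p v : G) (i : ℤ) :
    (z * p)⁻¹ * rc z p v i * (z * p) = rc z p v (i + 1) := by
  have := rc_conj z p v i 1
  rwa [zpow_neg, zpow_one] at this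

theorem rc_conj_neg_one (z p v : G) (i : ℤ) :
    (z * p) * rc z p v i * (z * p)⁻¹ = rc z p v (i - 1) := by
  have := rc_conj z p v i (-1)
  rw [neg_neg, zpow_one, zpow_neg, zpow_one] at this
  rw [this]; rfl

/-- conjugation by an involution `t` inverting `ρ` -/
theorem inv_conj_zpow (t r : G) (ht : t * t = 1) (htr : t * r * t = r⁻¹) (k : ℤ) :
    t * r ^ k * t = r ^ (-k) := by
  have hti : t⁻¹ = t := inv_eq_of_mul_eq_one_right ht
  have h := conj_zpow (a := t) (b := r) (i := k)
  rw [hti, htr] at h
  rw [← h, inv_zpow, zpow_neg]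

theorem conj_closure (z p c g : G) (hgen : ∀ i : ℤ, g⁻¹ * rc z p c i * g ∈ N0 z p c) :
    ∀ x ∈ N0 z p c, g⁻¹ * x * g ∈ N0 z p c := by
  intro x hx
  unfold N0 at hx
  induction hx using Subgroup.closure_induction with
  | mem y hy =>
    obtain ⟨i, rfl⟩ := hy
    exact hgen i
  | one => simp [Subgroup.one_mem]
  | mul a b _ _ iha ihb =>
    have : g⁻¹ * (a * b) * g = (g⁻¹ * a * g) * (g⁻¹ * b * g) := by group
    rw [this]; exact Subgroup.mul_mem _ iha ihb
  | inv a _ iha =>
    have : g⁻¹ * a⁻¹ * g = (g⁻¹ * a * g)⁻¹ := by group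
    rw [this]; exact Subgroup.inv_mem _ iha

end Helper1

/-- [A1] given involutions `z, p, c`, `z c = c z`, and [K1]: `N0` is commutative of exponent 2 and is normalised by
`ρ`, `z`, `p` (`z (rc i) z = rc (-i)`, `p (rc i) p = rc (1 - i)`; `p c p = rc 1`). -/
theorem N0_struct {z c p : G} (hz : z * z = 1) (hp : p * p = 1) (hc : c * c = 1) (hzc : z * c = c * z)
    (hK : ∀ i : ℤ, Commute c (rc z p c i)) :
    (∀ x ∈ N0 z p c, ∀ y ∈ N0 z p c, x * y = y * x) ∧ (∀ x ∈ N0 z p c, x * x = 1) ∧
      (∀ x ∈ N0 z p c, (z * p)⁻¹ * x * (z * p) ∈ N0 z p c) ∧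
      (∀ x ∈ N0 z p c, (z * p) * x * (z * p)⁻¹ ∈ N0 z p c) ∧
      (∀ x ∈ N0 z p c, z * x * z ∈ N0 z p c) ∧ (∀ x ∈ N0 z p c, p * x * p ∈ N0 z p c) := by
  have hzi : z⁻¹ = z := inv_eq_of_mul_eq_one_right hz
  have hpi : p⁻¹ = p := inv_eq_of_mul_eq_one_right hp
  -- generators commute
  have hgen : ∀ i j : ℤ, rc z p c i * rc z p c j = rc z p c j * rc z p c i := by
    intro i j
    have h := (hK (j - i)).eq
    have e1 : rc z p c i = (z * p) ^ (-i) * c * (z * p) ^ i := rfl
    have e2 : rc z p c j = (z * p) ^ (-i) * rc z p c (j - i) * (z * p) ^ i := by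
      rw [Helper1.rc_conj]; congr 1; ring
    rw [e1, e2]
    calc (z * p) ^ (-i) * c * (z * p) ^ i * ((z * p) ^ (-i) * rc z p c (j - i) * (z * p) ^ i)
        = (z * p) ^ (-i) * (c * rc z p c (j - i)) * (z * p) ^ i := by
          rw [zpow_neg]; group
      _ = (z * p) ^ (-i) * (rc z p c (j - i) * c) * (z * p) ^ i := by rw [h]
      _ = (z * p) ^ (-i) * rc z p c (j - i) * (z * p) ^ i * ((z * p) ^ (-i) * c * (z * p) ^ i) := by
          rw [zpow_neg]; group
  -- every element of N0 commutes with every generator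
  have hA : ∀ j : ℤ, ∀ x ∈ N0 z p c, rc z p c j * x = x * rc z p c j := by
    intro j x hx
    have hle : N0 z p c ≤ Subgroup.centralizer {rc z p c j} := by
      unfold N0
      rw [Subgroup.closure_le]
      rintro y ⟨i, rfl⟩
      rw [SetLike.mem_coe, Subgroup.mem_centralizer_iff]
      intro h hh
      rw [Set.mem_singleton_iff] at hh
      rw [hh]; exact hgen j i
    have := hle hx
    rw [Subgroup.mem_centralizer_iff] at this
    exact this _ rfl
  have hcomm : ∀ x ∈ N0 z p c, ∀ y ∈ N0 z p c, x * y = y * x := by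
    intro x hx y hy
    have hle : N0 z p c ≤ Subgroup.centralizer {x} := by
      unfold N0
      rw [Subgroup.closure_le]
      rintro w ⟨i, rfl⟩
      rw [SetLike.mem_coe, Subgroup.mem_centralizer_iff]
      intro h hh
      rw [Set.mem_singleton_iff] at hh
      rw [hh]; exact (hA i x hx).symm
    have := hle hy
    rw [Subgroup.mem_centralizer_iff] at this
    exact this _ rfl
  have hrcsq : ∀ i : ℤ, rc z p c i * rc z p c i = 1 := by
    intro i
    unfold rc
    calc (z * p) ^ (-i) * c * (z * p) ^ i * ((z * p) ^ (-i) * c * (z * p) ^ i)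
        = (z * p) ^ (-i) * (c * c) * (z * p) ^ i := by rw [zpow_neg]; group
      _ = 1 := by rw [hc, zpow_neg]; group
  have hsq : ∀ x ∈ N0 z p c, x * x = 1 := by
    intro x hx
    have hx' := hx
    unfold N0 at hx'
    induction hx' using Subgroup.closure_induction with
    | mem y hy =>
      obtain ⟨i, rfl⟩ := hy
      exact hrcsq i
    | one => simp
    | mul a b ha hb iha ihb =>
      have ha' : a ∈ N0 z p c := ha
      have hb' : b ∈ N0 z p c := hb
      have hab := hcomm a ha' b hb'
      calc a * b * (a * b) = a * (b * a) * b := by group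
        _ = a * (a * b) * b := by rw [hab]
        _ = (a * a) * (b * b) := by group
        _ = 1 := by rw [iha ha', ihb hb', one_mul]
    | inv a ha iha =>
      have ha' : a ∈ N0 z p c := ha
      have h1 := iha ha'
      have : a⁻¹ = a := inv_eq_of_mul_eq_one_right h1
      rw [this]; exact h1
  -- conjugations
  have hzρz : z * (z * p) * z = (z * p)⁻¹ := by
    rw [mul_inv_rev, hzi, hpi]
    calc z * (z * p) * z = (z * z) * p * z := by group
      _ = p * z := by rw [hz, one_mul]
  have hpρp : p * (z * p) * p = (z * p)⁻¹ := by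
    rw [mul_inv_rev, hzi, hpi]
    calc p * (z * p) * p = p * z * (p * p) := by group
      _ = p * z := by rw [hp, mul_one]
  have hzcz : z * c * z = c := by
    rw [hzc, mul_assoc, hz, mul_one]
  have hρ1 : ∀ x ∈ N0 z p c, (z * p)⁻¹ * x * (z * p) ∈ N0 z p c := by
    apply Helper1.conj_closure z p c (z * p)
    intro i
    rw [Helper1.rc_conj_one]
    exact rc_mem_N0 z p c _
  have hρ2 : ∀ x ∈ N0 z p c, (z * p) * x * (z * p)⁻¹ ∈ N0 z p c := by
    have := Helper1.conj_closure z p c (z * p)⁻¹ (by
      intro i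
      rw [inv_inv, Helper1.rc_conj_neg_one]
      exact rc_mem_N0 z p c _)
    intro x hx
    have h := this x hx
    rwa [inv_inv] at h
  have hzrc : ∀ i : ℤ, z * rc z p c i * z = rc z p c (-i) := by
    intro i
    unfold rc
    calc z * ((z * p) ^ (-i) * c * (z * p) ^ i) * z
        = (z * (z * p) ^ (-i) * z) * (z * c * z) * (z * (z * p) ^ i * z) := by
          have : ∀ a b d : G, z * (a * b * d) * z
              = (z * a * z) * (z * b * z) * (z * d * z) := by
            intro a b d
            calc z * (a * b * d) * z = z * a * 1 * b * 1 * d * z := by group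
              _ = z * a * (z * z) * b * (z * z) * d * z := by rw [hz]
              _ = (z * a * z) * (z * b * z) * (z * d * z) := by group
          exact this _ _ _
      _ = (z * p) ^ (- -i) * c * (z * p) ^ (-i) := by
          rw [Helper1.inv_conj_zpow z (z * p) hz hzρz, Helper1.inv_conj_zpow z (z * p) hz hzρz,
            hzcz]
  have hz1 : ∀ x ∈ N0 z p c, z * x * z ∈ N0 z p c := by
    have := Helper1.conj_closure z p c z (by
      intro i
      rw [hzi, hzrc]
      exact rc_mem_N0 z p c _)
    intro x hx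
    have h := this x hx
    rwa [hzi] at h
  have hpcp : p * c * p = rc z p c 1 := by
    unfold rc
    rw [zpow_neg, zpow_one, mul_inv_rev, hzi, hpi]
    calc p * c * p = p * (z * c * z) * p := by rw [hzcz]
      _ = p * z * c * (z * p) := by group
  have hprc : ∀ i : ℤ, p * rc z p c i * p = rc z p c (1 - i) := by
    intro i
    have e : rc z p c (1 - i) = (z * p) ^ (- -i) * rc z p c 1 * (z * p) ^ (-i) := by
      rw [Helper1.rc_conj, sub_eq_add_neg]
    rw [e, ← hpcp]
    unfold rc
    calc p * ((z * p) ^ (-i) * c * (z * p) ^ i) * p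
        = (p * (z * p) ^ (-i) * p) * (p * c * p) * (p * (z * p) ^ i * p) := by
          have : ∀ a b d : G, p * (a * b * d) * p
              = (p * a * p) * (p * b * p) * (p * d * p) := by
            intro a b d
            calc p * (a * b * d) * p = p * a * 1 * b * 1 * d * p := by group
              _ = p * a * (p * p) * b * (p * p) * d * p := by rw [hp]
              _ = (p * a * p) * (p * b * p) * (p * d * p) := by group
          exact this _ _ _
      _ = (z * p) ^ (- -i) * (p * c * p) * (z * p) ^ (-i) := by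
          rw [Helper1.inv_conj_zpow p (z * p) hp hpρp, Helper1.inv_conj_zpow p (z * p) hp hpρp]
  have hp1 : ∀ x ∈ N0 z p c, p * x * p ∈ N0 z p c := by
    have := Helper1.conj_closure z p c p (by
      intro i
      rw [hpi, hprc]
      exact rc_mem_N0 z p c _)
    intro x hx
    have h := this x hx
    rwa [hpi] at h
  exact ⟨hcomm, hsq, hρ1, hρ2, hz1, hp1⟩

end Cfsg.Agent.Lib.Helper12.Diamond
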