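import Mathlib
import Cfsg.Prelude.Def_RootSubgroups
import Cfsg.Agent.H26.RootInv2
import Cfsg.Agent.Lib.Helper12.Diamond.Defs

/-!
# S5046 diamond farm, piece [A2ab] pow_mul_inv_eq + nrm_props  (paper proof: notes/S5046_diamond_helper12.md)
Proved in place by helper21; auxiliary lemmas in `Cfsg.Agent.Lib.Helper12.Diamond.Helper21`.
-/

set_option autoImplicit false
set_option linter.unusedVariables false

namespace Cfsg.Agent.Lib.Helper12.Diamond

open Cfsg

variable {G : Type*} [Group G] {D : Set G}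

namespace Helper21

theorem nrm_zero (z p v : G) : nrm z p v 0 = 1 := rfl

theorem nrm_succ (z p v : G) (m : ℕ) : nrm z p v (m + 1) = nrm z p v m * rc z p v m := rfl

theorem rc_nat (z p v : G) (m : ℕ) :
    rc z p v (m : ℤ) = ((z * p)⁻¹) ^ m * v * (z * p) ^ m := by
  unfold rc
  rw [zpow_neg, zpow_natCast, inv_pow]

theorem rc_mul (z p v w : G) (i : ℤ) : rc z p (v * w) i = rc z p v i * rc z p w i := by
  unfold rc
  generalize z * p = r
  group

theorem rc_conj (z p v : G) (i : ℤ) :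
    rc z p ((z * p)⁻¹ * v * (z * p)) i = (z * p)⁻¹ * rc z p v i * (z * p) := by
  unfold rc
  generalize z * p = r
  group

theorem rc_conj' (z p v : G) (i : ℤ) :
    rc z p ((z * p) * v * (z * p)⁻¹) i = (z * p) * rc z p v i * (z * p)⁻¹ := by
  unfold rc
  generalize z * p = r
  group

theorem rc_succ (z p v : G) (i : ℤ) :
    rc z p v (i + 1) = (z * p)⁻¹ * rc z p v i * (z * p) := by
  unfold rc
  generalize z * p = r
  group

theorem rc_mem (z p : G) (N : Subgroup G) (hr : ∀ x ∈ N, (z * p)⁻¹ * x * (z * p) ∈ N)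
    (v : G) (hv : v ∈ N) (m : ℕ) : rc z p v (m : ℤ) ∈ N := by
  induction m with
  | zero =>
    have : rc z p v ((0 : ℕ) : ℤ) = v := by simp [rc]
    rw [this]
    exact hv
  | succ m ih =>
    have : ((m + 1 : ℕ) : ℤ) = (m : ℤ) + 1 := by push_cast; ring
    rw [this, rc_succ]
    exact hr _ ih

theorem nrm_mem (z p : G) (N : Subgroup G) (hr : ∀ x ∈ N, (z * p)⁻¹ * x * (z * p) ∈ N)
    (v : G) (hv : v ∈ N) (m : ℕ) : nrm z p v m ∈ N := by
  induction m with
  | zero => rw [nrm_zero]; exact N.one_mem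
  | succ m ih => rw [nrm_succ]; exact N.mul_mem ih (rc_mem z p N hr v hv m)

theorem nrm_mul (z p : G) (N : Subgroup G) (hcomm : ∀ x ∈ N, ∀ y ∈ N, x * y = y * x)
    (hr : ∀ x ∈ N, (z * p)⁻¹ * x * (z * p) ∈ N) (v : G) (hv : v ∈ N) (w : G) (hw : w ∈ N)
    (m : ℕ) : nrm z p (v * w) m = nrm z p v m * nrm z p w m := by
  induction m with
  | zero => simp [nrm_zero]
  | succ m ih =>
    rw [nrm_succ, nrm_succ, nrm_succ, ih, rc_mul]
    have h1 := hcomm _ (nrm_mem z p N hr w hw m) _ (rc_mem z p N hr v hv m)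
    calc nrm z p v m * nrm z p w m * (rc z p v m * rc z p w m)
        = nrm z p v m * (nrm z p w m * rc z p v m) * rc z p w m := by simp only [mul_assoc]
      _ = nrm z p v m * (rc z p v m * nrm z p w m) * rc z p w m := by rw [h1]
      _ = nrm z p v m * rc z p v m * (nrm z p w m * rc z p w m) := by simp only [mul_assoc]

theorem nrm_conj (z p v : G) (m : ℕ) :
    nrm z p ((z * p)⁻¹ * v * (z * p)) m = (z * p)⁻¹ * nrm z p v m * (z * p) := by
  induction m with
  | zero => simp [nrm_zero]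
  | succ m ih =>
    rw [nrm_succ, nrm_succ, ih, rc_conj]
    generalize z * p = r
    group

theorem nrm_conj' (z p v : G) (m : ℕ) :
    nrm z p ((z * p) * v * (z * p)⁻¹) m = (z * p) * nrm z p v m * (z * p)⁻¹ := by
  induction m with
  | zero => simp [nrm_zero]
  | succ m ih =>
    rw [nrm_succ, nrm_succ, ih, rc_conj']
    generalize z * p = r
    group

end Helper21

/-- [A2a] `(v ρ⁻¹)^m = (∏_{i<m} ρ^(-i) v ρ^i) ρ^(-m)` (no hypotheses; `ρ = z * p`). -/
theorem pow_mul_inv_eq (z p v : G) (m : ℕ) : (v * (z * p)⁻¹) ^ m = nrm z p v m * ((z * p)⁻¹) ^ m := by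
  induction m with
  | zero => simp [Helper21.nrm_zero]
  | succ m ih =>
    rw [pow_succ, ih, Helper21.nrm_succ, Helper21.rc_nat, pow_succ]
    generalize z * p = r
    group

/-- [A2b] `nrm` stays in `N`, is multiplicative on `N`, and is compatible with conjugation by `ρ^{±1}`. -/
theorem nrm_props (z p : G) (N : Subgroup G) (hcomm : ∀ x ∈ N, ∀ y ∈ N, x * y = y * x)
    (hr : ∀ x ∈ N, (z * p)⁻¹ * x * (z * p) ∈ N) (hr' : ∀ x ∈ N, (z * p) * x * (z * p)⁻¹ ∈ N) :
    (∀ v ∈ N, ∀ m, nrm z p v m ∈ N) ∧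
      (∀ v ∈ N, ∀ w ∈ N, ∀ m, nrm z p (v * w) m = nrm z p v m * nrm z p w m) ∧
      (∀ v m, nrm z p ((z * p)⁻¹ * v * (z * p)) m = (z * p)⁻¹ * nrm z p v m * (z * p)) ∧
      (∀ v m, nrm z p ((z * p) * v * (z * p)⁻¹) m = (z * p) * nrm z p v m * (z * p)⁻¹) :=
  ⟨fun v hv m => Helper21.nrm_mem z p N hr v hv m,
    fun v hv w hw m => Helper21.nrm_mul z p N hcomm hr v hv w hw m,
    fun v m => Helper21.nrm_conj z p v m,
    fun v m => Helper21.nrm_conj' z p v m⟩

end Cfsg.Agent.Lib.Helper12.Diamond
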