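import Mathlib
import Cfsg.Prelude.Def_RootSubgroups
import Cfsg.Agent.H26.RootInv2
import Cfsg.Agent.Lib.Helper12.Diamond.Defs
import Cfsg.Agent.Lib.Helper12.Diamond.BasicB
import Cfsg.Agent.Lib.Helper12.Diamond.Key1
import Cfsg.Agent.Lib.Helper12.Diamond.N0Struct
import Cfsg.Agent.Lib.Helper12.Diamond.NormA

/-!
# S5046 diamond farm, piece [K2] key2  (paper proof: notes/S5046_diamond_helper12.md)
Proved in place by helper1; auxiliary lemmas in `Cfsg.Agent.Lib.Helper12.Diamond.Helper1`.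
-/

set_option autoImplicit false

namespace Cfsg.Agent.Lib.Helper12.Diamond

open Cfsg

variable {G : Type*} [Group G] {D : Set G}

namespace Helper1

/-- an element of exponent two which is a power of an element of odd order is trivial -/
theorem eq_one_of_sq_of_odd_pow {x w : G} (n : ℕ) (hx : x * x = 1) (hxw : x = w ^ n)
    (hw : Odd (orderOf w)) : x = 1 := by
  obtain ⟨k, hk⟩ := hw
  have h1 : x ^ (2 * k + 1) = 1 := by
    rw [hxw, ← pow_mul, mul_comm, pow_mul, ← hk, pow_orderOf_eq_one, one_pow]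
  have h2 : x ^ (2 * k + 1) = x := by
    rw [pow_succ, pow_mul, pow_two, hx, one_pow, one_mul]
  rw [← h2, h1]

end Helper1

/-- [K2] `nrm c n = (c ρ⁻¹)^n = (c p z)^n` has odd order (`c p z` is conjugate to `z c p`) and lies in `N0`
(exponent 2), so it is `1`.  (`n` any exponent with `ρ^n = 1`.) -/
theorem key2 {z c p : G} (h : Cfg D z c p) (n : ℕ) (hρ : (z * p) ^ n = 1) : nrm z p c n = 1 := by
  obtain ⟨hz2, hc2, hp2, -⟩ := cfg_basic h
  have hK := key1 h
  obtain ⟨-, hsq, hr, -⟩ := N0_struct hz2 hp2 hc2 h.hzc hK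
  have hmem : nrm z p c n ∈ N0 z p c :=
    Helper21.nrm_mem z p (N0 z p c) hr c (c_mem_N0 z p c) n
  have hx2 := hsq _ hmem
  have hzi : z⁻¹ = z := inv_eq_of_mul_eq_one_right hz2
  have hpow : nrm z p c n = (c * (z * p)⁻¹) ^ n := by
    rw [pow_mul_inv_eq, _root_.inv_pow, hρ, inv_one, mul_one]
  have hconj : c * (z * p)⁻¹ = z⁻¹ * (z * c * p) * z := by
    rw [mul_inv_rev, hzi]
    have hpi : p⁻¹ = p := inv_eq_of_mul_eq_one_right hp2
    rw [hpi]
    calc c * (p * z) = (z * z) * c * p * z := by rw [hz2, one_mul, mul_assoc]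
      _ = z * (z * c * p) * z := by simp only [mul_assoc]
  have hodd : Odd (orderOf (c * (z * p)⁻¹)) := by
    rw [hconj]
    have : orderOf (z⁻¹ * (z * c * p) * z) = orderOf (z * c * p) := by
      have hs : SemiconjBy z⁻¹ (z * c * p) (z⁻¹ * (z * c * p) * z) := by
        unfold SemiconjBy
        group
      exact (hs.orderOf_eq).symm
    rw [this]; exact h.hzcp
  exact Helper1.eq_one_of_sq_of_odd_pow n hx2 hpow hodd

end Cfsg.Agent.Lib.Helper12.Diamond
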