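import Mathlib
import Cfsg.Prelude.Def_RootSubgroups
import Cfsg.Agent.H26.RootInv2
import Cfsg.Agent.Lib.Helper12.Diamond.Defs
import Cfsg.Agent.Lib.Helper12.Diamond.BasicB
import Cfsg.Agent.Lib.Helper12.Diamond.Key1
import Cfsg.Agent.Lib.Helper12.Diamond.N0Struct

/-!
# S5046 diamond farm, piece [K3] key3  (paper proof: notes/S5046_diamond_helper12.md)
Proved by helper22 (auxiliary lemmas in the sub-namespace `Cfsg.Agent.Lib.Helper12.Diamond.Helper22`).
-/

set_option autoImplicit false

namespace Cfsg.Agent.Lib.Helper12.Diamond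

open Cfsg

variable {G : Type*} [Group G] {D : Set G}

namespace Helper22

/-- for involutions `a`, `b` with `(a b)^4 = 1`, the square `(a b)²` commutes with `b`. -/
theorem sq_comm_right {a b : G} (ha : a * a = 1) (hb : b * b = 1) (h4 : (a * b) ^ 4 = 1) :
    (a * b) ^ 2 * b = b * (a * b) ^ 2 := by
  have e1 : (a * b) ^ 2 * b = a * b * a := by
    calc (a * b) ^ 2 * b = a * b * a * (b * b) := by rw [sq]; group
      _ = a * b * a := by rw [hb, mul_one]
  have e2 : (a * b * a) * (b * (a * b) ^ 2) = 1 := by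
    calc (a * b * a) * (b * (a * b) ^ 2) = (a * b) ^ 4 := by
          simp only [pow_succ, pow_zero, one_mul]; group
      _ = 1 := h4
  have e3 : (a * b * a) * (a * b * a) = 1 := by
    calc (a * b * a) * (a * b * a) = a * b * (a * a) * b * a := by group
      _ = a * (b * b) * a := by rw [ha, mul_one]; group
      _ = 1 := by rw [hb, mul_one, ha]
  rw [e1]
  exact mul_left_cancel (e3.trans e2.symm)

/-- for involutions `a`, `b` with `(a b)^4 = 1`, the square `(a b)²` commutes with `a`. -/
theorem sq_comm_left {a b : G} (ha : a * a = 1) (hb : b * b = 1) (h4 : (a * b) ^ 4 = 1) :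
    (a * b) ^ 2 * a = a * (a * b) ^ 2 := by
  have e1 : a * (a * b) ^ 2 = b * a * b := by
    calc a * (a * b) ^ 2 = (a * a) * b * a * b := by rw [sq]; group
      _ = b * a * b := by rw [ha, one_mul]
  have e2 : ((a * b) ^ 2 * a) * (b * a * b) = 1 := by
    calc ((a * b) ^ 2 * a) * (b * a * b) = (a * b) ^ 4 := by
          simp only [pow_succ, pow_zero, one_mul]; group
      _ = 1 := h4
  have e3 : (b * a * b) * (b * a * b) = 1 := by
    calc (b * a * b) * (b * a * b) = b * a * (b * b) * a * b := by group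
      _ = b * (a * a) * b := by rw [hb, mul_one]; group
      _ = 1 := by rw [ha, mul_one, hb]
  rw [e1]
  -- X * W = 1 and W * W = 1 give X = W
  have : ((a * b) ^ 2 * a) * (b * a * b) = (b * a * b) * (b * a * b) := e2.trans e3.symm
  exact mul_right_cancel this

/-- `(a b)²` is an involution when `(a b)^4 = 1`. -/
theorem sq_mul_sq {a b : G} (h4 : (a * b) ^ 4 = 1) : (a * b) ^ 2 * (a * b) ^ 2 = 1 := by
  rw [← pow_add]; exact h4

end Helper22

/-- [K3] one step `v ↦ step z p v = (z (v p)²)²`: with `y := (v p)²`: `y ∈ D`, `o(z y) = 4`, `y ∈ N0`,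
`y` commutes with `p` and with all of `N0`; `step v = theta v`; and the invariant is preserved.
(P1 = `H26.ri_L1` and (LA) give `y ∈ V_z`; `N0` abelian gives `o(step v · p) ∣ 4`, P1 again excludes commuting.) -/
theorem key3 {z c p v : G} (h : Cfg D z c p) (hv : Inv D z c p v) :
    (v * p) ^ 2 ∈ D ∧ orderOf (z * (v * p) ^ 2) = 4 ∧ (v * p) ^ 2 ∈ N0 z p c ∧
      (v * p) ^ 2 * p = p * (v * p) ^ 2 ∧ step z p v = theta z p v ∧ Inv D z c p (step z p v) := by
  obtain ⟨hz2, hc2, hp2, -, -, -, -, -⟩ := cfg_basic h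
  have hK := key1 h
  obtain ⟨Ncomm, Nsq, Nr, Nr', Nz, Np⟩ := N0_struct hz2 hp2 hc2 h.hzc hK
  have hD := h.hD
  have hv2 : v * v = 1 := H26.ri_mul_self hD hv.memD
  have hvp4 : (v * p) ^ 4 = 1 := by rw [← hv.four]; exact pow_orderOf_eq_one _
  -- `y := (v p)²`
  have hyD : (v * p) ^ 2 ∈ D := H26.ri_four hD hv.memD h.hp hv.four
  have hyp : (v * p) ^ 2 * p = p * (v * p) ^ 2 := Helper22.sq_comm_right hv2 hp2 hvp4
  have hyv : (v * p) ^ 2 * v = v * (v * p) ^ 2 := Helper22.sq_comm_left hv2 hp2 hvp4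
  have hyN : (v * p) ^ 2 ∈ N0 z p c := by
    have h1 : (v * p) ^ 2 = v * (p * v * p) := by rw [sq]; group
    rw [h1]
    exact (N0 z p c).mul_mem hv.memN (Np v hv.memN)
  -- `z ≠ p`
  have hzp_ne : z ≠ p := by
    intro hzp
    have h1 : orderOf (c * p) = 2 := by
      rw [← hzp, ← h.hzc]
      exact hD.orderOf_eq _ h.hzcD
    rw [h.hcp] at h1
    omega
  -- `z` and `p` do not commute
  have hzp_nc : z * p ≠ p * z := fun hc' =>
    hzp_ne (H26.ri_eq_of_odd_of_comm hD h.hz h.hp h.hzp hc')
  generalize hy : (v * p) ^ 2 = y at hyD hyp hyv hyN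
  have hy2 : y * y = 1 := H26.ri_mul_self hD hyD
  -- `z y` has not odd order (P1)
  have hnot_odd : ¬ Odd (orderOf (z * y)) := by
    intro hodd
    have hvz : v * z ∈ D := by rw [← hv.comm]; exact hv.prodD
    have h1 : z = y := H26.ri_L1 hD hv.memD h.hz hvz hv.comm.symm hyD hyv.symm hodd
    apply hzp_nc
    rw [h1]; exact hyp
  -- `z` and `y` do not commute (LA)
  have hnc : z * y ≠ y * z := by
    intro hc'
    -- `v (z p) v = z p y`
    have h1 : v * (z * p) * v⁻¹ = z * p * y := by
      have hvinv : v⁻¹ = v := H26.ri_inv hD hv.memD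
      rw [hvinv, ← hy]
      calc v * (z * p) * v = (v * z) * p * v := by group
        _ = (z * v) * p * v := by rw [hv.comm]
        _ = z * (p * p) * v * p * v := by rw [hp2, mul_one]
        _ = z * p * (p * v * p * v) := by group
        _ = z * p * ((v * p) ^ 2)⁻¹ := by
            congr 1
            rw [sq, mul_inv_rev, mul_inv_rev, H26.ri_inv hD hv.memD, H26.ri_inv hD h.hp]
            group
        _ = z * p * (v * p) ^ 2 := by
            congr 1
            exact inv_eq_of_mul_eq_one_left (Helper22.sq_mul_sq hvp4)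
    have h2 : orderOf (z * p * y) = orderOf (z * p) := by
      rw [← h1]; exact H26.orderOf_conj_eq v (z * p)
    -- `y` commutes with `z p`
    have hcomm : Commute (z * p) y := by
      show z * p * y = y * (z * p)
      rw [mul_assoc, ← hyp, ← mul_assoc, hc', mul_assoc]
    have h3 : (z * p * y) ^ orderOf (z * p) = y := by
      rw [hcomm.mul_pow, pow_orderOf_eq_one, one_mul]
      obtain ⟨k, hk⟩ := h.hzp
      rw [hk, pow_succ, pow_mul, sq, hy2, one_pow, one_mul]
    have h4 : (z * p * y) ^ orderOf (z * p) = 1 := by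
      rw [← h2]; exact pow_orderOf_eq_one _
    exact H26.ri_ne_one hD hyD (h3.symm.trans h4)
  have hzy4 : orderOf (z * y) = 4 := by
    rcases H26.ri_odd_or_four hD h.hz hyD hnc with h1 | h1
    · exact absurd h1 hnot_odd
    · exact h1
  have hzy4' : (z * y) ^ 4 = 1 := by rw [← hzy4]; exact pow_orderOf_eq_one _
  -- the new element `c' = (z y)²`
  have hc'D : (z * y) ^ 2 ∈ D := H26.ri_four hD h.hz hyD hzy4
  have hc'z : (z * y) ^ 2 * z = z * (z * y) ^ 2 := Helper22.sq_comm_left hz2 hy2 hzy4'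
  -- `step = theta`
  have hpvp : p * v * p ∈ N0 z p c := Np v hv.memN
  have hzpvpz : z * (p * v * p) * z ∈ N0 z p c := Nz _ hpvp
  have hstep_eq : (z * y) ^ 2 = (p * v * p) * (z * (p * v * p) * z) := by
    have hy' : y = v * (p * v * p) := by rw [← hy, sq]; group
    have e1 : (z * y) ^ 2 = (v * (z * (p * v * p) * z)) * (v * (p * v * p)) := by
      rw [sq, hy']
      calc z * (v * (p * v * p)) * (z * (v * (p * v * p)))
          = (z * v) * (p * v * p) * z * (v * (p * v * p)) := by group
        _ = (v * z) * (p * v * p) * z * (v * (p * v * p)) := by rw [hv.comm]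
        _ = (v * (z * (p * v * p) * z)) * (v * (p * v * p)) := by group
    rw [e1]
    -- all four factors lie in the abelian group `N0` of exponent 2
    have c1 : (z * (p * v * p) * z) * v = v * (z * (p * v * p) * z) := Ncomm _ hzpvpz _ hv.memN
    have c2 : (z * (p * v * p) * z) * (p * v * p) = (p * v * p) * (z * (p * v * p) * z) :=
      Ncomm _ hzpvpz _ hpvp
    calc (v * (z * (p * v * p) * z)) * (v * (p * v * p))
        = v * ((z * (p * v * p) * z) * v) * (p * v * p) := by group
      _ = v * (v * (z * (p * v * p) * z)) * (p * v * p) := by rw [c1]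
      _ = (v * v) * ((z * (p * v * p) * z) * (p * v * p)) := by group
      _ = (p * v * p) * (z * (p * v * p) * z) := by rw [hv2, one_mul, c2]
  have hz_inv : z⁻¹ = z := H26.ri_inv hD h.hz
  have hp_inv : p⁻¹ = p := H26.ri_inv hD h.hp
  have htheta : theta z p v = (p * v * p) * (z * (p * v * p) * z) := by
    unfold theta
    rw [mul_inv_rev, hz_inv, hp_inv]
    have e1 : p * z * v * (z * p) = p * v * p := by
      calc p * z * v * (z * p) = p * (z * v) * z * p := by group
        _ = p * (v * z) * z * p := by rw [hv.comm]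
        _ = p * v * (z * z) * p := by group
        _ = p * v * p := by rw [hz2, mul_one]
    rw [e1]
    congr 1
    group
  have hst : step z p v = theta z p v := by
    unfold step
    rw [hy, hstep_eq, htheta]
  have hc'N : (z * y) ^ 2 ∈ N0 z p c := by
    rw [hstep_eq]; exact (N0 z p c).mul_mem hpvp hzpvpz
  -- the invariant for `c'`
  have hc'zD : z * (z * y) ^ 2 ∈ D := by
    have e : z * (z * y) ^ 2 = y * z * y := by
      calc z * (z * y) ^ 2 = (z * z) * y * z * y := by rw [sq]; group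
        _ = y * z * y := by rw [hz2, one_mul]
    rw [e]
    exact H26.ri_conj' hD h.hz hyD
  have hc'2 : (z * y) ^ 2 * (z * y) ^ 2 = 1 := Helper22.sq_mul_sq hzy4'
  -- `c'` does not commute with `p` (P1)
  have hc'p_nc : (z * y) ^ 2 * p ≠ p * (z * y) ^ 2 := by
    intro hc''
    -- ri_L1 with x := c', y := z, h := p
    have hc'zD' : (z * y) ^ 2 * z ∈ D := by rw [hc'z]; exact hc'zD
    have h1 : z = p := H26.ri_L1 hD hc'D h.hz hc'zD' hc'z h.hp hc'' h.hzp
    exact hzp_ne h1
  have hc'p4 : orderOf ((z * y) ^ 2 * p) = 4 := by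
    rcases H26.ri_odd_or_four hD hc'D h.hp hc'p_nc with h1 | h1
    · exfalso
      -- `((c' p)²)² = 1` since `(c' p)² = c' (p c' p) ∈ N0`
      have hmem : ((z * y) ^ 2 * p) ^ 2 ∈ N0 z p c := by
        have e : ((z * y) ^ 2 * p) ^ 2 = (z * y) ^ 2 * (p * (z * y) ^ 2 * p) := by
          rw [sq ((z * y) ^ 2 * p)]; group
        rw [e]
        exact (N0 z p c).mul_mem hc'N (Np _ hc'N)
      have h2 : (((z * y) ^ 2 * p) ^ 2) ^ 2 = 1 := by
        rw [sq (((z * y) ^ 2 * p) ^ 2)]; exact Nsq _ hmem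
      have h3 : ((z * y) ^ 2 * p) ^ 2 = 1 :=
        H26.odd_orderOf_eq_one_of_sq (H26.odd_orderOf_sq h1) h2
      have h4 : (z * y) ^ 2 * p = 1 := H26.odd_orderOf_eq_one_of_sq h1 h3
      apply hc'p_nc
      have h5 : (z * y) ^ 2 = p⁻¹ := eq_inv_of_mul_eq_one_left h4
      rw [h5, hp_inv]
    · exact h1
  refine ⟨hyD, hzy4, hyN, hyp, hst, ?_⟩
  have hstep_def : step z p v = (z * y) ^ 2 := by unfold step; rw [hy]
  rw [hstep_def]
  exact ⟨hc'D, hc'N, hc'z.symm, hc'zD, hc'p4⟩

end Cfsg.Agent.Lib.Helper12.Diamond
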