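import Mathlib
import Cfsg.Prelude.Def_RootSubgroups
import Cfsg.Agent.H26.RootInv2
import Cfsg.Agent.Lib.Helper12.Diamond.Defs

/-!
# S5046 diamond farm, piece [A2e] periodic_of_injOn  (paper proof: notes/S5046_diamond_helper12.md)
STUB: the owner of the piece replaces the `sorry`(s) IN PLACE; names + statements VERBATIM;
auxiliary lemmas in a sub-namespace `Cfsg.Agent.Lib.Helper12.Diamond.<You>`.
-/

set_option autoImplicit false

namespace Cfsg.Agent.Lib.Helper12.Diamond

open Cfsg

variable {G : Type*} [Group G] {D : Set G}

/-- [A2e] a self-map of a finite type which maps `S` into `S` injectively has every point of `S` periodic. -/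
theorem periodic_of_injOn {α : Type*} [Finite α] (f : α → α) (S : Set α) (hS : ∀ x ∈ S, f x ∈ S)
    (hinj : Set.InjOn f S) {x : α} (hx : x ∈ S) : ∃ j : ℕ, 1 ≤ j ∧ f^[j] x = x := by
  -- all iterates stay in `S`
  have hmem : ∀ i : ℕ, f^[i] x ∈ S := by
    intro i
    induction i with
    | zero => exact hx
    | succ i ih => rw [Function.iterate_succ_apply']; exact hS _ ih
  -- two iterates coincide
  obtain ⟨a, b, hab, heq⟩ := Finite.exists_ne_map_eq_of_infinite (fun i : ℕ => f^[i] x)
  -- cancellation
  have hcancel : ∀ (a d : ℕ), f^[a] x = f^[a + d] x → x = f^[d] x := by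
    intro a
    induction a with
    | zero => intro d h; simpa using h
    | succ a ih =>
      intro d h
      apply ih d
      have h1 : f (f^[a] x) = f (f^[a + d] x) := by
        rw [← Function.iterate_succ_apply' f a x, ← Function.iterate_succ_apply' f (a + d) x]
        have : (a + d).succ = a + 1 + d := by omega
        rw [this]
        exact h
      exact hinj (hmem a) (hmem (a + d)) h1
  rcases Nat.lt_or_gt_of_ne hab with h | h
  · refine ⟨b - a, by omega, ?_⟩
    have h1 : f^[a] x = f^[a + (b - a)] x := by
      have : a + (b - a) = b := by omega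
      rw [this]; exact heq
    exact (hcancel a (b - a) h1).symm
  · refine ⟨a - b, by omega, ?_⟩
    have h1 : f^[b] x = f^[b + (a - b)] x := by
      have : b + (a - b) = a := by omega
      rw [this]; exact heq.symm
    exact (hcancel b (a - b) h1).symm

end Cfsg.Agent.Lib.Helper12.Diamond
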