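import Mathlib
import Cfsg.Prelude.Def_RootSubgroups
import Cfsg.Agent.H26.RootInv2
import Cfsg.Agent.Lib.Helper12.Diamond.Defs
import Cfsg.Agent.Lib.Helper12.Diamond.BasicB

/-!
# S5046 diamond farm, piece [QL] quad_lemma  (paper proof: notes/S5046_diamond_helper12.md)
STUB: the owner of the piece replaces the `sorry`(s) IN PLACE; names + statements VERBATIM;
auxiliary lemmas in a sub-namespace `Cfsg.Agent.Lib.Helper12.Diamond.<You>`.
-/

set_option autoImplicit false

namespace Cfsg.Agent.Lib.Helper12.Diamond

open Cfsg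

variable {G : Type*} [Group G] {D : Set G}

/-- [QL] (helper25's quad lemma, short proof): `g, c, y ∈ D`, `z := (g c)² ∈ D`, `y` commutes with `c`, `y z y = z c`:
then `y` is an odd partner of `g`.  (`y ∉ C(g)`: else `g` commutes with `c`.  `y ∈ V_g`: `h := (g y)²` commutes with
`g`, and conjugating `z = g c g c` by `y` gives `z c = g h c g h c`, whence `h c h = (c g)² = z`, `c = h z h` commutes
with `g`.) -/
theorem quad_lemma (hD : IsRootInvolutionSet D) {g c y : G} (hg : g ∈ D) (hc : c ∈ D) (hy : y ∈ D)
    (hz : (g * c) ^ 2 ∈ D) (hyc : y * c = c * y) (hconj : y * (g * c) ^ 2 * y = (g * c) ^ 2 * c) :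
    y ∈ oddPartners D g := by
  have hg2 := H26.ri_mul_self hD hg
  have hc2 := H26.ri_mul_self hD hc
  have hy2 := H26.ri_mul_self hD hy
  have hginv := H26.ri_inv hD hg
  have hcinv := H26.ri_inv hD hc
  have hyinv := H26.ri_inv hD hy
  have hzinv := H26.ri_inv hD hz
  have hz2 := H26.ri_mul_self hD hz
  have hz1 := H26.ri_ne_one hD hz
  -- `g`, `c` do not commute
  have hnc : g * c ≠ c * g := by
    intro hcomm
    exact hz1 (H26.ri_sq_of_comm hD hg hc hcomm)
  -- `z⁻¹ = (c g)²`
  have hzi : ((g * c) ^ 2)⁻¹ = c * g * (c * g) := by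
    rw [sq]
    calc (g * c * (g * c))⁻¹ = c⁻¹ * g⁻¹ * (c⁻¹ * g⁻¹) := by group
      _ = c * g * (c * g) := by rw [hginv, hcinv]
  have hcgcg : c * g * (c * g) = (g * c) ^ 2 := by rw [← hzi, hzinv]
  -- `g z g = z`
  have hgz : g * (g * c) ^ 2 = (g * c) ^ 2 * g := by
    calc g * (g * c) ^ 2 = g * (g * c * (g * c)) := by rw [sq]
      _ = (g * g) * (c * g * (c * g)) * g⁻¹ := by group
      _ = (g * c) ^ 2 * g := by rw [hg2, one_mul, hcgcg, hginv]
  -- `z c = g c g`
  have hzc : (g * c) ^ 2 * c = g * c * g := by
    calc (g * c) ^ 2 * c = g * c * (g * c) * c := by rw [sq]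
      _ = g * c * g * (c * c) := by group
      _ = g * c * g := by rw [hc2, mul_one]
  generalize hzdef : (g * c) ^ 2 = z at hz hconj hzinv hz2 hz1 hzi hcgcg hgz hzc
  have hyg : y ≠ g := by
    rintro rfl
    exact hnc hyc
  rcases hD.pair g hg y hy with hcomm | hodd | ⟨h4, -⟩
  · -- `g` commutes with `y`, hence with `z c`, hence with `c`
    exfalso
    have h1 : g * (z * c) = (z * c) * g := by
      rw [← hconj]
      calc g * (y * z * y) = (g * y) * z * y := by group
        _ = (y * g) * z * y := by rw [hcomm]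
        _ = y * (g * z) * y := by group
        _ = y * (z * g) * y := by rw [hgz]
        _ = y * z * (g * y) := by group
        _ = y * z * (y * g) := by rw [hcomm]
        _ = y * z * y * g := by group
    apply hnc
    calc g * c = g * ((z * z) * c) := by rw [hz2, one_mul]
      _ = (g * z) * (z * c) := by group
      _ = (z * g) * (z * c) := by rw [hgz]
      _ = z * (g * (z * c)) := by group
      _ = z * ((z * c) * g) := by rw [h1]
      _ = (z * z) * c * g := by group
      _ = c * g := by rw [hz2, one_mul]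
  · exact ⟨hy, hyg, hodd⟩
  · -- `o(g y) = 4`
    exfalso
    have hp4 : (g * y) ^ 4 = 1 := by rw [← h4]; exact pow_orderOf_eq_one _
    obtain ⟨hhh, hgh, hyh⟩ := Aux.sq_conj_of_pow_four hg2 hy2 hp4
    have hygy : y * g * y⁻¹ = g * (g * y) ^ 2 := by
      rw [hyinv, sq]
      calc y * g * y = (g * g) * (y * g * y) := by rw [hg2, one_mul]
        _ = g * (g * y * (g * y)) := by group
    generalize (g * y) ^ 2 = h at hhh hgh hyh hygy
    have hgh' : g * h = h * g := (Aux.comm_of_conj hg2 hgh).symm
    have hycy : y * c * y⁻¹ = c := by rw [hyc]; group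
    -- conjugate `z = g c g c` by `y`
    have h1 : y * z * y⁻¹ = (g * h) * c * ((g * h) * c) := by
      rw [← hzdef, sq]
      calc y * (g * c * (g * c)) * y⁻¹
          = (y * g * y⁻¹) * (y * c * y⁻¹) * ((y * g * y⁻¹) * (y * c * y⁻¹)) := by group
        _ = (g * h) * c * ((g * h) * c) := by rw [hygy, hycy]
    rw [hyinv, hconj, hzc] at h1
    -- `g c g = g h c g h c`, so `h c h = c g c g = z`
    have h2 : c * g = (h * c * h) * (g * c) := by
      have : g * (c * g) = g * ((h * c * h) * (g * c)) := by
        calc g * (c * g) = g * c * g := by group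
          _ = (g * h) * c * ((g * h) * c) := h1
          _ = g * (h * c * (g * h) * c) := by group
          _ = g * (h * c * (h * g) * c) := by rw [hgh']
          _ = g * ((h * c * h) * (g * c)) := by group
      exact mul_left_cancel this
    have h3 : h * c * h = z := by
      calc h * c * h = (h * c * h) * (g * c) * (c⁻¹ * g⁻¹) := by group
        _ = c * g * (c⁻¹ * g⁻¹) := by rw [← h2]
        _ = c * g * (c * g) := by rw [hginv, hcinv]
        _ = z := hcgcg
    have h4' : c = h * z * h := by
      rw [← h3]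
      calc c = (h * h) * c * (h * h) := by rw [hhh, one_mul, mul_one]
        _ = h * (h * c * h) * h := by group
    apply hnc
    rw [h4']
    calc g * (h * z * h) = (g * h) * z * h := by group
      _ = (h * g) * z * h := by rw [hgh']
      _ = h * (g * z) * h := by group
      _ = h * (z * g) * h := by rw [hgz]
      _ = h * z * (g * h) := by group
      _ = h * z * (h * g) := by rw [hgh']
      _ = h * z * h * g := by group

end Cfsg.Agent.Lib.Helper12.Diamond
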