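import Mathlib
import Cfsg.Prelude.Def_RootSubgroups
import Cfsg.Agent.H26.RootInv2
import Cfsg.Agent.Lib.Helper12.Diamond.Defs
import Cfsg.Agent.Lib.Helper12.Diamond.NormA

/-!
# S5046 diamond farm, piece [A2cd] theta_props + theta_ker  (paper proof: notes/S5046_diamond_helper12.md)
Proved in place by helper21; auxiliary lemmas in `Cfsg.Agent.Lib.Helper12.Diamond.Helper21`.
-/

set_option autoImplicit false
set_option linter.unusedVariables false

namespace Cfsg.Agent.Lib.Helper12.Diamond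

open Cfsg

variable {G : Type*} [Group G] {D : Set G}

namespace Helper21

/-- an element commuting with `r` has `nrm = ` its powers -/
theorem nrm_of_comm (z p v : G) (h : v * (z * p) = (z * p) * v) (m : ℕ) : nrm z p v m = v ^ m := by
  have hrc : ∀ i : ℕ, rc z p v (i : ℤ) = v := by
    intro i
    rw [rc_nat]
    have h1 : ∀ k : ℕ, v * (z * p) ^ k = (z * p) ^ k * v := by
      intro k
      exact ((Commute.pow_right (show Commute v (z * p) from h) k)).eq
    rw [mul_assoc, h1 i, ← mul_assoc, inv_pow, inv_mul_cancel, one_mul]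
  induction m with
  | zero => rw [nrm_zero, pow_zero]
  | succ m ih => rw [nrm_succ, ih, hrc, pow_succ]

/-- `θ v = 1`, `v² = 1`, `r` of odd order: `v` commutes with `r` -/
theorem comm_of_theta (r v : G) (hv : v * v = 1) (hθ : r⁻¹ * v * r * (r * v * r⁻¹) = 1) (k : ℕ)
    (hρ : r ^ (2 * k + 1) = 1) : v * r = r * v := by
  have hvinv : v⁻¹ = v := inv_eq_of_mul_eq_one_right hv
  have h3 : r⁻¹ * v * r = (r * v * r⁻¹)⁻¹ := eq_inv_of_mul_eq_one_left hθ
  have h3' : r⁻¹ * v * r = r * v * r⁻¹ := by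
    rw [h3, mul_inv_rev, mul_inv_rev, inv_inv, hvinv, mul_assoc]
  have h2 : v * r ^ 2 = r ^ 2 * v := by
    have h4 : v * r ^ 2 = r * (r⁻¹ * v * r) * r := by
      rw [pow_two]; group
    rw [h4, h3', pow_two]
    group
  have h5 : r = (r ^ 2) ^ (k + 1) := by
    rw [← pow_mul]
    have : 2 * (k + 1) = (2 * k + 1) + 1 := by omega
    rw [this, pow_succ, hρ, one_mul]
  have := (Commute.pow_right (show Commute v (r ^ 2) from h2) (k + 1)).eq
  rwa [← h5] at this

end Helper21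

/-- [A2c] `theta` stays in `N`, is multiplicative on `N`, preserves `nrm · n = 1`. -/
theorem theta_props (z p : G) (N : Subgroup G) (hcomm : ∀ x ∈ N, ∀ y ∈ N, x * y = y * x)
    (hr : ∀ x ∈ N, (z * p)⁻¹ * x * (z * p) ∈ N) (hr' : ∀ x ∈ N, (z * p) * x * (z * p)⁻¹ ∈ N) :
    (∀ v ∈ N, theta z p v ∈ N) ∧
      (∀ v ∈ N, ∀ w ∈ N, theta z p (v * w) = theta z p v * theta z p w) ∧
      (∀ v ∈ N, ∀ n, nrm z p v n = 1 → nrm z p (theta z p v) n = 1) := by
  refine ⟨fun v hv => N.mul_mem (hr v hv) (hr' v hv), ?_, ?_⟩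
  · intro v hv w hw
    unfold theta
    have h1 := hcomm _ (hr w hw) _ (hr' v hv)
    have e1 : (z * p)⁻¹ * (v * w) * (z * p) = ((z * p)⁻¹ * v * (z * p)) * ((z * p)⁻¹ * w * (z * p)) := by
      group
    have e2 : (z * p) * (v * w) * (z * p)⁻¹ = ((z * p) * v * (z * p)⁻¹) * ((z * p) * w * (z * p)⁻¹) := by
      group
    rw [e1, e2]
    calc (z * p)⁻¹ * v * (z * p) * ((z * p)⁻¹ * w * (z * p)) *
          ((z * p) * v * (z * p)⁻¹ * ((z * p) * w * (z * p)⁻¹))
        = (z * p)⁻¹ * v * (z * p) * (((z * p)⁻¹ * w * (z * p)) * ((z * p) * v * (z * p)⁻¹)) *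
          ((z * p) * w * (z * p)⁻¹) := by simp only [mul_assoc]
      _ = (z * p)⁻¹ * v * (z * p) * (((z * p) * v * (z * p)⁻¹) * ((z * p)⁻¹ * w * (z * p))) *
          ((z * p) * w * (z * p)⁻¹) := by rw [h1]
      _ = (z * p)⁻¹ * v * (z * p) * ((z * p) * v * (z * p)⁻¹) *
          ((z * p)⁻¹ * w * (z * p) * ((z * p) * w * (z * p)⁻¹)) := by simp only [mul_assoc]
  · intro v hv n hn
    unfold theta
    rw [Helper21.nrm_mul z p N hcomm hr _ (hr v hv) _ (hr' v hv), Helper21.nrm_conj,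
      Helper21.nrm_conj', hn]
    group

/-- [A2d] `theta` has trivial kernel on the norm-one elements: `v² = 1`, `θ v = 1`, `ρ^n = 1`, `n` odd,
`nrm v n = 1` imply `v = 1`  (`θ v = 1 ⇒ v` commutes with `ρ²`, hence with `ρ`, so `nrm v n = v^n = v`). -/
theorem theta_ker (z p v : G) (hv : v * v = 1) (hθ : theta z p v = 1) (n : ℕ) (hn : Odd n)
    (hρ : (z * p) ^ n = 1) (hnrm : nrm z p v n = 1) : v = 1 := by
  obtain ⟨k, hk⟩ := hn
  unfold theta at hθ
  rw [hk] at hρ
  have h6 : v * (z * p) = (z * p) * v := Helper21.comm_of_theta (z * p) v hv hθ k hρ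
  have h7 := Helper21.nrm_of_comm z p v h6 n
  rw [hnrm, hk, pow_succ, pow_mul, pow_two, hv, one_pow, one_mul] at h7
  exact h7.symm

end Cfsg.Agent.Lib.Helper12.Diamond
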