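import Mathlib
import Cfsg.Prelude.Def_RootSubgroups
import Cfsg.Agent.H26.RootInv2
import Cfsg.Agent.Lib.Helper12.Diamond.Defs
import Cfsg.Agent.Lib.Helper12.Diamond.BasicB
import Cfsg.Agent.Lib.Helper12.Diamond.BasicCFG
import Cfsg.Agent.Lib.Helper12.Diamond.Key1
import Cfsg.Agent.Lib.Helper12.Diamond.N0Struct
import Cfsg.Agent.Lib.Helper12.Diamond.NormA
import Cfsg.Agent.Lib.Helper12.Diamond.ThetaA
import Cfsg.Agent.Lib.Helper12.Diamond.Periodic
import Cfsg.Agent.Lib.Helper12.Diamond.Key2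
import Cfsg.Agent.Lib.Helper12.Diamond.Key3
import Cfsg.Agent.Lib.Helper12.Diamond.Quad

/-!
# S5046: the diamond configuration is impossible (assembly of the farm pieces)
Paper proof: notes/S5046_diamond_helper12.md
-/

set_option autoImplicit false

namespace Cfsg.Agent.Lib.Helper12.Diamond

open Cfsg

variable {G : Type*} [Group G] {D : Set G}

/-- SWAP EXISTENCE (generic in a configuration `Cfg D z c p`): there is `y ∈ D` with `o(z y) = 4`, commuting with `c`,
and `y z y = z c` (so `⟨z, y⟩` is dihedral of order 8 with centre `c`, and `y` swaps `z ↔ z c`). -/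
theorem exists_swap [Finite G] {z c p : G} (hcfg : Cfg D z c p) :
    ∃ y ∈ D, orderOf (z * y) = 4 ∧ y * c = c * y ∧ y * z * y = z * c := by
  have hD := hcfg.hD
  obtain ⟨hz2, hc2, hp2, -, -, -, -, -⟩ := cfg_basic hcfg
  have hK := key1 hcfg
  obtain ⟨Ncomm, Nsq, Nr, Nr', -, -⟩ := N0_struct hz2 hp2 hc2 hcfg.hzc hK
  have hρn : (z * p) ^ orderOf (z * p) = 1 := pow_orderOf_eq_one _
  have hnodd : Odd (orderOf (z * p)) := hcfg.hzp
  generalize orderOf (z * p) = n at hρn hnodd
  have hnc : nrm z p c n = 1 := key2 hcfg n hρn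
  obtain ⟨-, nrm_mul, -, -⟩ := nrm_props z p (N0 z p c) Ncomm Nr Nr'
  obtain ⟨th_mem, th_mul, th_nrm⟩ := theta_props z p (N0 z p c) Ncomm Nr Nr'
  -- the norm-one elements of `N0`
  let S : Set G := {v | v ∈ N0 z p c ∧ nrm z p v n = 1}
  have hS : ∀ x ∈ S, theta z p x ∈ S := fun x hx => ⟨th_mem x hx.1, th_nrm x hx.1 n hx.2⟩
  have hinj : Set.InjOn (theta z p) S := by
    intro v hv w hw hvw
    have h1 : theta z p (v * w) = 1 := by
      rw [th_mul v hv.1 w hw.1, hvw]
      exact Nsq _ (th_mem w hw.1)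
    have h2 : nrm z p (v * w) n = 1 := by rw [nrm_mul v hv.1 w hw.1, hv.2, hw.2, one_mul]
    have h3 : (v * w) * (v * w) = 1 := Nsq _ ((N0 z p c).mul_mem hv.1 hw.1)
    have h4 := theta_ker z p (v * w) h3 h1 n hnodd hρn h2
    have h5 : w * w = 1 := Nsq _ hw.1
    calc v = v * (w * w) := by rw [h5, mul_one]
      _ = (v * w) * w := by rw [mul_assoc]
      _ = w := by rw [h4, one_mul]
  obtain ⟨j, hj1, hj⟩ := periodic_of_injOn (theta z p) S hS hinj (x := c) ⟨c_mem_N0 z p c, hnc⟩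
  -- the iteration keeps the invariant
  have hinv0 : Inv D z c p c := ⟨hcfg.hc, c_mem_N0 z p c, hcfg.hzc, hcfg.hzcD, hcfg.hcp⟩
  have hiter : ∀ i : ℕ, Inv D z c p ((theta z p)^[i] c) := by
    intro i
    induction i with
    | zero => exact hinv0
    | succ i ih =>
      rw [Function.iterate_succ_apply']
      obtain ⟨-, -, -, -, hst, hI⟩ := key3 hcfg ih
      rw [← hst]
      exact hI
  obtain ⟨j', rfl⟩ : ∃ j', j = j' + 1 := ⟨j - 1, by omega⟩
  have hcs := hiter j'
  rw [Function.iterate_succ_apply'] at hj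
  generalize (theta z p)^[j'] c = cs at hcs hj
  obtain ⟨hyD, hzy, hyN, -, hst, -⟩ := key3 hcfg hcs
  have hstep : (z * (cs * p) ^ 2) ^ 2 = c := by
    have h1 : step z p cs = c := by rw [hst]; exact hj
    exact h1
  generalize (cs * p) ^ 2 = y at hyD hzy hyN hstep
  -- `(z y)² = c`, so `y z y = z c`
  have hconj : y * z * y = z * c := by
    have h1 : z * y * (z * y) = c := by
      rw [← sq]; exact hstep
    calc y * z * y = (z * z) * (y * z * y) := by rw [hz2, one_mul]
      _ = z * (z * y * (z * y)) := by group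
      _ = z * c := by rw [h1]
  exact ⟨y, hyD, hzy, Ncomm y hyN c (c_mem_N0 z p c), hconj⟩

/-- the configuration (◊) of `notes/S5046_partial_helper28.md` is impossible. -/
theorem diamond_false [Finite G] (hD : IsRootInvolutionSet D) {g c p : G} (hg : g ∈ D) (hc : c ∈ D)
    (hp : p ∈ D) (hz : (g * c) ^ 2 ∈ D)
    (hA : oddPartners D g = oddPartners D ((g * c) ^ 2))
    (hpz : p ∈ oddPartners D ((g * c) ^ 2)) (hpc : p ∉ oddPartners D c) : False := by
  have hcfg : Cfg D ((g * c) ^ 2) c p := cfg_of_diamond hD hg hc hp hz hpz hpc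
  obtain ⟨y, hyD, hzy, hyc, hconj⟩ := exists_swap hcfg
  have hq := quad_lemma hD hg hc hyD hz hyc hconj
  rw [hA] at hq
  obtain ⟨-, -, hodd⟩ := hq
  rw [hzy] at hodd
  exact (by decide : ¬ Odd 4) hodd

end Cfsg.Agent.Lib.Helper12.Diamond
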